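import Groth.Agent.Picfga.RigSheaf

/-!
# Invertible modules rigidified along a morphism

`σ : W ⟶ Y` a morphism of schemes.

* `RB σ`: an invertible module `L` on `Y` with a trivialization `ρ` of `σ^* L` (as a `Fam σ L O_W`);
* `Arr w R R'`: arrows over a commutative square `w : σ' ≫ G = g ≫ σ` (= isomorphisms `G^* L ≅ L'`
  compatible with the rigidifications);
* `RCl σ`: isomorphism classes; `RCl.pull w : RCl σ → RCl σ'`;
* `rigF f w : (Over S)ᵒᵖ ⥤ Type (u + 1)` for `f : X ⟶ S`, `w : W ⟶ X`: the functor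
  `T ↦ {(L, α) | L invertible on X_T, α : w_T^* L ≅ O}/≅`.
-/

set_option autoImplicit false
set_option backward.isDefEq.respectTransparency false

universe u v

open CategoryTheory CategoryTheory.Limits AlgebraicGeometry TopologicalSpace Opposite

namespace Groth.Agent.Pic13.H602.Rig

open Groth.Agent.Fdesc Groth.Agent.Fdesc.LocGen Groth.Agent.Picfga.LineHom
  Groth.Agent.Picfga.LineDescent Groth.Agent.Picfga.LineFam Groth.Agent.Picfga.HilbPull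

variable {W W' W'' Y Y' Y'' : Scheme.{u}}

/-! ### Filling of arrows -/

section fill

variable {G : Y' ⟶ Y} {G' : Y'' ⟶ Y'} {L : Y.Modules} {L' : Y'.Modules} {L'' : Y''.Modules}

/-- Arrows of invertible modules are cartesian: existence. -/
lemma exists_fill (hL : PicF.IsInvertible L) (θ : Fam G L L') (θ' : Fam (G' ≫ G) L L'') :
    ∃ κ : Fam G' L' L'', θ.comp κ = θ' := by
  obtain ⟨U, e, hU, he⟩ := Fam.exists_gens hL
  have hU' : ⨆ i, G ⁻¹ᵁ U i = ⊤ := by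
    rw [← Scheme.Hom.preimage_iSup, hU]; rfl
  obtain ⟨κ, hκ⟩ := Fam.exists_of_gens (G := G') (L := L') (L' := L'') hU'
    (e := fun i ↦ θ.map (e i)) (fun i ↦ θ.gen (he i)) (fun i ↦ θ'.map (e i))
    (fun i ↦ θ'.gen (he i)) (fun i j ↦ by
      obtain ⟨a, ha⟩ := exists_smul (he j) (inf_le_right : U i ⊓ U j ≤ U j)
        (LocGen.res L (inf_le_left : U i ⊓ U j ≤ U i) (e i))
      refine ⟨G.app _ a, ?_, ?_⟩
      · have h1 := θ.res (inf_le_left : U i ⊓ U j ≤ U i) (e i)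
        have h2 := θ.res (inf_le_right : U i ⊓ U j ≤ U j) (e j)
        rw [← ha, θ.smul, h2] at h1
        exact h1.symm
      · have h1 := θ'.res (inf_le_left : U i ⊓ U j ≤ U i) (e i)
        have h2 := θ'.res (inf_le_right : U i ⊓ U j ≤ U j) (e j)
        rw [← ha, θ'.smul, h2] at h1
        exact h1.symm)
  exact ⟨κ, Fam.ext_of_gens hU he fun i ↦ hκ i⟩

/-- Arrows of invertible modules are cartesian: uniqueness. -/
lemma fill_unique (hL : PicF.IsInvertible L) (θ : Fam G L L') {κ κ' : Fam G' L' L''}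
    (h : θ.comp κ = θ.comp κ') : κ = κ' := by
  obtain ⟨U, e, hU, he⟩ := Fam.exists_gens hL
  have hU' : ⨆ i, G ⁻¹ᵁ U i = ⊤ := by
    rw [← Scheme.Hom.preimage_iSup, hU]; rfl
  refine Fam.ext_of_gens hU' (e := fun i ↦ θ.map (e i)) (fun i ↦ θ.gen (he i)) fun i ↦ ?_
  exact congrArg (fun F : Fam (G' ≫ G) L L'' ↦ F.map (e i)) h

lemma comp_assoc {Y₃ : Scheme.{u}} {G'' : Y₃ ⟶ Y''} {L₃ : Y₃.Modules} (θ : Fam G L L')
    (θ' : Fam G' L' L'') (θ'' : Fam G'' L'' L₃) :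
    (θ.comp θ').comp θ'' = θ.comp (θ'.comp θ'') := rfl

lemma id_comp (θ : Fam G L L') : (Fam.id L).comp θ = θ := rfl

lemma comp_id (θ : Fam G L L') : θ.comp (Fam.id L') = θ := rfl

end fill

/-! ### Rigidified modules -/

/-- An invertible module on `Y` rigidified along `σ : W ⟶ Y`. -/
structure RB (σ : W ⟶ Y) where
  /-- the module -/
  L : Y.Modules
  inv : PicF.IsInvertible L
  /-- the rigidification -/
  ρ : Fam σ L (Coh.structureModule W)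

/-- Arrows over the commutative square `w`. -/
structure Arr {σ : W ⟶ Y} {σ' : W' ⟶ Y'} {G : Y' ⟶ Y} {g : W' ⟶ W} (w : σ' ≫ G = g ≫ σ)
    (R : RB σ) (R' : RB σ') where
  /-- the family -/
  θ : Fam G R.L R'.L
  isArr : IsArr w R.ρ R'.ρ θ

variable {σ : W ⟶ Y} {σ' : W' ⟶ Y'} {σ'' : W'' ⟶ Y''} {G : Y' ⟶ Y} {g : W' ⟶ W}
  {G' : Y'' ⟶ Y'} {g' : W'' ⟶ W'}

lemma Arr.ext' {w : σ' ≫ G = g ≫ σ} {R : RB σ} {R' : RB σ'} {A B : Arr w R R'} (h : A.θ = B.θ) :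
    A = B := by
  cases A; cases B; congr

/-- Composition. -/
noncomputable def Arr.comp {w : σ' ≫ G = g ≫ σ} {w' : σ'' ≫ G' = g' ≫ σ'} {R : RB σ} {R' : RB σ'}
    {R'' : RB σ''} (A : Arr w R R') (B : Arr w' R' R'') (w'' : σ'' ≫ G' ≫ G = (g' ≫ g) ≫ σ) :
    Arr w'' R R'' where
  θ := A.θ.comp B.θ
  isArr := IsArr.comp w w' w'' A.isArr B.isArr

/-- The identity. -/
noncomputable def Arr.id (R : RB σ) : Arr (show σ ≫ 𝟙 Y = 𝟙 W ≫ σ by simp) R R where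
  θ := Fam.id R.L
  isArr := isArr_id R.ρ

lemma comp_w (w : σ' ≫ G = g ≫ σ) (w' : σ'' ≫ G' = g' ≫ σ') :
    σ'' ≫ G' ≫ G = (g' ≫ g) ≫ σ := by
  rw [reassoc_of% w', w, Category.assoc]

/-- Pull back of a rigidified module. -/
lemma exists_pull (R : RB σ) (w : σ' ≫ G = g ≫ σ) : ∃ R' : RB σ', Nonempty (Arr w R R') := by
  obtain ⟨ρ', hρ'⟩ := exists_rig w R.inv R.ρ
    (Fam.ofIso (Iso.refl ((Scheme.Modules.pullback G).obj R.L)))
  exact ⟨⟨_, isInvertible_pullback _ R.inv, ρ'⟩, ⟨⟨_, hρ'⟩⟩⟩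

/-- Filling. -/
lemma Arr.exists_fill {w : σ' ≫ G = g ≫ σ} (w' : σ'' ≫ G' = g' ≫ σ')
    (w'' : σ'' ≫ G' ≫ G = (g' ≫ g) ≫ σ) {R : RB σ} {R' : RB σ'} {R'' : RB σ''}
    (A : Arr w R R') (C : Arr w'' R R'') : ∃ B : Arr w' R' R'', A.comp B w'' = C := by
  obtain ⟨κ, hκ⟩ := Rig.exists_fill R.inv A.θ C.θ
  have key : IsArr w' R'.ρ R''.ρ κ := by
    obtain ⟨U, e, hU, he⟩ := Fam.exists_gens R.inv
    have hU' : ⨆ i, G ⁻¹ᵁ U i = ⊤ := by
      rw [← Scheme.Hom.preimage_iSup, hU]; rfl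
    refine Fam.ext_of_gens hU' (e := fun i ↦ A.θ.map (e i)) (fun i ↦ A.θ.gen (he i)) fun i ↦ ?_
    have hle : σ' ⁻¹ᵁ G ⁻¹ᵁ U i ≤ (g ≫ σ) ⁻¹ᵁ U i := by
      rw [← w]; exact le_rfl
    have hle' : (g' ≫ σ') ⁻¹ᵁ G ⁻¹ᵁ U i ≤ ((g' ≫ g) ≫ σ) ⁻¹ᵁ U i :=
      g'.preimage_mono hle
    have hle'' : (g' ≫ σ') ⁻¹ᵁ G ⁻¹ᵁ U i ≤ (σ'' ≫ G' ≫ G) ⁻¹ᵁ U i := by
      rw [w'']; exact hle'
    have h1 := (isArr_iff _ _).1 C.isArr hle'' hle' (e i)
    have h2 : R'.ρ.map (A.θ.map (e i)) = (R.ρ.comp (Fam.can g)).on hle (e i) := by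
      have := (isArr_iff _ _).1 A.isArr (le_refl _) hle (e i)
      rw [← this]
      exact (Fam.on_le_rfl _ _).symm
    have h3 : (R'.ρ.comp (Fam.can g')).map (A.θ.map (e i)) =
        (Fam.can g').map (R'.ρ.map (A.θ.map (e i))) := rfl
    rw [h3, h2, Fam.on_def, Fam.res]
    rw [← hκ] at h1
    exact h1
  exact ⟨⟨κ, key⟩, Arr.ext' hκ⟩

/-- The relation of isomorphism of rigidified modules. -/
def Rel (R R' : RB σ) : Prop := Nonempty (Arr (show σ ≫ 𝟙 Y = 𝟙 W ≫ σ by simp) R R')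

lemma Arr.nonempty_of_eq {G₁ : Y' ⟶ Y} {g₁ : W' ⟶ W} (w : σ' ≫ G = g ≫ σ)
    (w₁ : σ' ≫ G₁ = g₁ ≫ σ) (hG : G = G₁) (hg : g = g₁) {R : RB σ} {R' : RB σ'}
    (h : Nonempty (Arr w R R')) : Nonempty (Arr w₁ R R') := by
  subst hG hg
  exact h

lemma Rel.refl (R : RB σ) : Rel R R := ⟨Arr.id R⟩

/-- Arrows over the same square are unique up to isomorphism of the target. -/
lemma rel_of_arr {w : σ' ≫ G = g ≫ σ} {R : RB σ} {R' R'' : RB σ'} (A : Nonempty (Arr w R R'))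
    (B : Nonempty (Arr w R R'')) : Rel R' R'' := by
  obtain ⟨A⟩ := A
  have w' : σ' ≫ 𝟙 Y' ≫ G = (𝟙 W' ≫ g) ≫ σ := by simpa using w
  obtain ⟨B⟩ := Arr.nonempty_of_eq w w' (by simp) (by simp) B
  obtain ⟨C, -⟩ := Arr.exists_fill (show σ' ≫ 𝟙 Y' = 𝟙 W' ≫ σ' by simp) w' A B
  exact ⟨C⟩

lemma Rel.symm {R R' : RB σ} (h : Rel R R') : Rel R' R := rel_of_arr h (Rel.refl R)

/-- Arrows can be composed with isomorphisms. -/
lemma arr_comp {w : σ' ≫ G = g ≫ σ} {w' : σ'' ≫ G' = g' ≫ σ'} {R : RB σ} {R' : RB σ'}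
    {R'' : RB σ''} (A : Nonempty (Arr w R R')) (B : Nonempty (Arr w' R' R'')) :
    Nonempty (Arr (comp_w w w') R R'') := by
  obtain ⟨A⟩ := A
  obtain ⟨B⟩ := B
  exact ⟨A.comp B _⟩

lemma Rel.trans {R R' R'' : RB σ} (h : Rel R R') (h' : Rel R' R'') : Rel R R'' :=
  Arr.nonempty_of_eq _ _ (by simp) (by simp) (arr_comp h h')

lemma arr_rel {w : σ' ≫ G = g ≫ σ} {R : RB σ} {R' R'' : RB σ'} (A : Nonempty (Arr w R R'))
    (B : Rel R' R'') : Nonempty (Arr w R R'') :=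
  Arr.nonempty_of_eq _ _ (by simp) (by simp) (arr_comp A B)

lemma rel_arr {w : σ' ≫ G = g ≫ σ} {R R' : RB σ} {R'' : RB σ'} (A : Rel R R')
    (B : Nonempty (Arr w R' R'')) : Nonempty (Arr w R R'') :=
  Arr.nonempty_of_eq _ _ (by simp) (by simp) (arr_comp A B)

/-- The setoid. -/
def setoid (σ : W ⟶ Y) : Setoid (RB σ) where
  r := Rel
  iseqv := ⟨Rel.refl, Rel.symm, Rel.trans⟩

/-- Isomorphism classes of invertible modules on `Y` rigidified along `σ : W ⟶ Y`. -/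
def RCl (σ : W ⟶ Y) : Type (u + 1) := Quotient (setoid σ)

/-- The class of a rigidified module. -/
def RB.cls (R : RB σ) : RCl σ := Quotient.mk (setoid σ) R

lemma RCl.exists_rep (c : RCl σ) : ∃ R : RB σ, R.cls = c := Quotient.exists_rep c

lemma RB.cls_eq_iff {R R' : RB σ} : R.cls = R'.cls ↔ Rel R R' := Quotient.eq (r := setoid σ)

/-- Pull back of classes along a commutative square. -/
noncomputable def RCl.pull (w : σ' ≫ G = g ≫ σ) : RCl σ → RCl σ' :=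
  Quotient.lift (s := setoid σ) (fun R ↦ (exists_pull R w).choose.cls) (fun R R' h ↦ by
    rw [RB.cls_eq_iff]
    exact rel_of_arr (exists_pull R w).choose_spec (rel_arr h (exists_pull R' w).choose_spec))

lemma RCl.pull_eq_iff {w : σ' ≫ G = g ≫ σ} {R : RB σ} {R' : RB σ'} :
    RCl.pull w R.cls = R'.cls ↔ Nonempty (Arr w R R') := by
  change (exists_pull R w).choose.cls = R'.cls ↔ _
  rw [RB.cls_eq_iff]
  exact ⟨fun h ↦ arr_rel (exists_pull R w).choose_spec h,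
    fun h ↦ rel_of_arr (exists_pull R w).choose_spec h⟩

lemma Arr.pull_eq {w : σ' ≫ G = g ≫ σ} {R : RB σ} {R' : RB σ'} (A : Arr w R R') :
    RCl.pull w R.cls = R'.cls := RCl.pull_eq_iff.2 ⟨A⟩

lemma RCl.pull_id (c : RCl σ) : RCl.pull (show σ ≫ 𝟙 Y = 𝟙 W ≫ σ by simp) c = c := by
  obtain ⟨R, rfl⟩ := c.exists_rep
  exact (Arr.id R).pull_eq

lemma RCl.pull_pull (w : σ' ≫ G = g ≫ σ) (w' : σ'' ≫ G' = g' ≫ σ') (c : RCl σ) :
    RCl.pull w' (RCl.pull w c) = RCl.pull (comp_w w w') c := by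
  obtain ⟨R, rfl⟩ := c.exists_rep
  obtain ⟨R', A⟩ := exists_pull R w
  obtain ⟨R'', B⟩ := exists_pull R' w'
  rw [RCl.pull_eq_iff.2 A, RCl.pull_eq_iff.2 B]
  exact (RCl.pull_eq_iff.2 (arr_comp A B)).symm

lemma RCl.pull_congr {G₁ : Y' ⟶ Y} {g₁ : W' ⟶ W} (w : σ' ≫ G = g ≫ σ)
    (w₁ : σ' ≫ G₁ = g₁ ≫ σ) (hG : G = G₁) (hg : g = g₁) (c : RCl σ) :
    RCl.pull w c = RCl.pull w₁ c := by
  subst hG hg
  rfl

/-- The underlying class of modules. -/
noncomputable def RCl.cl : RCl σ → PicF.Cl Y :=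
  Quotient.lift (s := setoid σ) (fun R ↦ PicF.cl R.L) (fun R R' h ↦ by
    obtain ⟨A⟩ := h
    have := A.θ.cl_eq R.inv
    rw [Groth.Agent.Picfga.RigSheaf.pullCl_id] at this
    exact this.symm)

lemma RB.cls_cl (R : RB σ) : R.cls.cl = PicF.cl R.L := rfl

lemma RCl.isInvertibleCl (c : RCl σ) : PicF.IsInvertibleCl c.cl := by
  obtain ⟨R, rfl⟩ := c.exists_rep
  exact ⟨R.L, rfl, R.inv⟩

lemma RCl.cl_pull (w : σ' ≫ G = g ≫ σ) (c : RCl σ) : (RCl.pull w c).cl = PicF.pullCl G c.cl := by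
  obtain ⟨R, rfl⟩ := c.exists_rep
  obtain ⟨R', ⟨A⟩⟩ := exists_pull R w
  rw [A.pull_eq]
  exact A.θ.cl_eq R.inv

/-! ### The functor -/

section functor

variable {X S : Scheme.{u}} (f : X ⟶ S) (w : W ⟶ X)

/-- `w_T : W_T ⟶ X_T`. -/
noncomputable def wT (T : Over S) : PicF.XT (w ≫ f) T ⟶ PicF.XT f T :=
  pullback.map (w ≫ f) T.hom f T.hom w (𝟙 _) (𝟙 _) (by simp) (by simp)

@[reassoc (attr := simp)]
lemma wT_fst (T : Over S) : wT f w T ≫ pullback.fst f T.hom = pullback.fst _ _ ≫ w := by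
  simp [wT]

@[reassoc (attr := simp)]
lemma wT_snd (T : Over S) : wT f w T ≫ pullback.snd f T.hom = pullback.snd _ _ := by
  simp [wT]

lemma wT_XTmap {T T' : Over S} (g : T' ⟶ T) :
    wT f w T' ≫ PicF.XTmap f g = PicF.XTmap (w ≫ f) g ≫ wT f w T := by
  apply pullback.hom_ext
  · simp only [Category.assoc, XTmap_fst, wT_fst]
    rw [XTmap_fst_assoc]
  · simp only [Category.assoc, XTmap_snd, wT_snd, wT_snd_assoc]

/-- **The rigidified Picard functor** `T ↦ {(L, α) | L invertible on X_T, α : w_T^* L ≅ O}/≅`. -/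
noncomputable def rigF : (Over S)ᵒᵖ ⥤ Type (u + 1) where
  obj T := RCl (wT f w T.unop)
  map {T T'} g := TypeCat.ofHom (fun c ↦ RCl.pull (wT_XTmap f w g.unop) c)
  map_id T := by
    ext c
    exact (RCl.pull_congr _ _ (XTmap_id f T.unop) (XTmap_id (w ≫ f) T.unop) c).trans
      (RCl.pull_id c)
  map_comp {T T' T''} g h := by
    ext c
    exact (RCl.pull_congr _ (comp_w (wT_XTmap f w g.unop) (wT_XTmap f w h.unop))
      (XTmap_comp f h.unop g.unop) (XTmap_comp (w ≫ f) h.unop g.unop) c).trans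
      (RCl.pull_pull _ _ c).symm

lemma rigF_map {T T' : Over S} (g : T' ⟶ T) (c : (rigF f w).obj (op T)) :
    (rigF f w).map g.op c = RCl.pull (wT_XTmap f w g) c := rfl

/-- Restriction of the rigidification along `v : V ⟶ W`. -/
noncomputable def rigRestrict {V : Scheme.{u}} (v : V ⟶ W) (v' : V ⟶ X) (hv : v ≫ w = v')
    (T : Over S) : RCl (wT f w T) → RCl (wT f v' T) :=
  RCl.pull (G := 𝟙 _) (g := pullback.map (v' ≫ f) T.hom (w ≫ f) T.hom v (𝟙 _) (𝟙 _)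
    (by simp [← hv]) (by simp)) (by
      apply pullback.hom_ext <;> simp [wT, hv])

end functor

end Groth.Agent.Pic13.H602.Rig
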