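import Groth.Agent.Pic13.H602.FamDesc3

/-!
# The rigidified Picard functor is an fpqc sheaf

* `Inj f w`: `Γ(X_T, ⊤) → Γ(W_T, ⊤)` is injective for all `T`;
* `IsFpqcSheaf F` for `F : (Over S)ᵒᵖ ⥤ Type w`;
* `isFpqcSheaf_rigF`: if `Inj f w`, then `rigF f w` is an fpqc sheaf.
-/

set_option autoImplicit false
set_option backward.isDefEq.respectTransparency false

universe v u

open CategoryTheory CategoryTheory.Limits AlgebraicGeometry TopologicalSpace Opposite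

namespace Groth.Agent.Pic13.H602.Rig

open Groth.Agent.Fdesc Groth.Agent.Fdesc.LocGen Groth.Agent.Picfga.LineHom
  Groth.Agent.Picfga.LineDescent Groth.Agent.Picfga.LineFam Groth.Agent.Picfga.HilbPull
  Groth.Agent.Pic13.H602.FamDesc

/-- The fpqc sheaf condition for a presheaf on `Over S`. -/
def IsFpqcSheaf {S : Scheme.{u}} (F : (Over S)ᵒᵖ ⥤ Type v) : Prop :=
  ∀ (T : Over S) {ι : Type u} (V : ι → Over S) (j : ∀ i, V i ⟶ T),
    Presieve.ofArrows (fun i ↦ (V i).left) (fun i ↦ (j i).left) ∈ Scheme.fpqcPrecoverage T.left →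
    ∀ x : ∀ i, F.obj (op (V i)),
    (∀ (i k : ι) (U : Over S) (a : U ⟶ V i) (b : U ⟶ V k), a ≫ j i = b ≫ j k →
      F.map a.op (x i) = F.map b.op (x k)) →
    ∃! y : F.obj (op T), ∀ i, F.map (j i).op y = x i

/-- An fpqc sheaf is a Zariski sheaf. -/
lemma IsFpqcSheaf.isZarSheaf {S : Scheme.{u}} {F : (Over S)ᵒᵖ ⥤ Type v} (h : IsFpqcSheaf F) :
    Picfga.OverRep.IsZarSheaf F := fun T 𝒰 x hx ↦ h T 𝒰.V 𝒰.j (by
      apply Scheme.zariskiPrecoverage_le_fpqcPrecoverage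
      rw [Scheme.ofArrows_mem_precoverage_iff]
      exact ⟨fun t ↦ 𝒰.covers t, fun i ↦ 𝒰.isOpen i⟩) x hx

/-- Single coverings. -/
lemma IsFpqcSheaf.single {S : Scheme.{u}} {F : (Over S)ᵒᵖ ⥤ Type v} (h : IsFpqcSheaf F)
    {T T' : Over S} (f : T' ⟶ T) [Flat f.left] [Surjective f.left] [QuasiCompact f.left]
    (x : F.obj (op T'))
    (hx : ∀ (W : Over S) (a b : W ⟶ T'), a ≫ f = b ≫ f → F.map a.op x = F.map b.op x) :
    ∃! y : F.obj (op T), F.map f.op y = x := by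
  have hm : Presieve.ofArrows (fun _ : PUnit.{u + 1} ↦ T'.left) (fun _ ↦ f.left) ∈
      Scheme.fpqcPrecoverage T.left := by
    rw [Presieve.ofArrows_pUnit.{u}]
    exact Scheme.Hom.singleton_mem_fpqcPrecoverage _
  obtain ⟨y, hy, hyu⟩ := h T (fun _ : PUnit.{u + 1} ↦ T') (fun _ ↦ f) hm (fun _ ↦ x)
    (fun _ _ W a b e ↦ hx W a b e)
  exact ⟨y, hy ⟨⟩, fun y' hy' ↦ hyu y' fun _ ↦ hy'⟩

/-! ### Uniqueness of arrows -/

section unique

variable {W W' Y Y' : Scheme.{u}} {σ : W ⟶ Y} {σ' : W' ⟶ Y'} {G G₁ : Y' ⟶ Y} {g g₁ : W' ⟶ W}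

lemma Arr.sim (hσ' : Function.Injective σ'.appTop) {w : σ' ≫ G = g ≫ σ} {w₁ : σ' ≫ G₁ = g₁ ≫ σ}
    {R : RB σ} {R' : RB σ'} (A : Arr w R R') (B : Arr w₁ R R') (hG : G = G₁) (hg : g = g₁) :
    Sim A.θ B.θ := by
  subst hG hg
  exact Sim.of_eq (IsArr.unique w R.inv hσ' A.isArr B.isArr)

omit W Y Y' in
lemma can_comp_can {T T' T'' : Scheme.{u}} (g : T' ⟶ T) (g' : T'' ⟶ T') {h : T'' ⟶ T}
    (hh : g' ≫ g = h) : Sim ((Fam.can g).comp (Fam.can g')) (Fam.can h) := by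
  subst hh
  exact Sim.of_eq rfl

lemma Arr.sim_iff {w : σ' ≫ G = g ≫ σ} {R : RB σ} {R' : RB σ'} (A : Arr w R R') :
    Sim (A.θ.comp R'.ρ) (R.ρ.comp (Fam.can g)) := (isArr_iff_sim w).1 A.isArr

end unique

variable {X S W : Scheme.{u}} (f : X ⟶ S) (w : W ⟶ X)

/-- The rigidity hypothesis: global functions on `X_T` are determined by their restriction to `W_T`. -/
def Inj : Prop := ∀ T : Over S, Function.Injective (wT f w T).appTop

lemma isPullback_XTmap₂ {T V V' U : Over S} {a : U ⟶ V} {b : U ⟶ V'} {j : V ⟶ T} {j' : V' ⟶ T}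
    (h : IsPullback a.left b.left j.left j'.left) :
    IsPullback (PicF.XTmap f a) (PicF.XTmap f b) (PicF.XTmap f j) (PicF.XTmap f j') := by
  have hw : a ≫ j = b ≫ j' := by
    ext
    exact h.w
  have h1 := (isPullback_XTmap f a).paste_vert h
  rw [← XTmap_snd f b, ← XTmap_snd f j] at h1
  refine IsPullback.of_bot h1 ?_ (isPullback_XTmap f j')
  rw [← XTmap_comp, hw, XTmap_comp]

/-- The fibre product in `Over S`. -/
noncomputable abbrev ovl {T V V' : Over S} (j : V ⟶ T) (j' : V' ⟶ T) : Over S :=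
  Over.mk (pullback.fst j.left j'.left ≫ V.hom)

/-- First projection. -/
noncomputable abbrev ovl₁ {T V V' : Over S} (j : V ⟶ T) (j' : V' ⟶ T) : ovl j j' ⟶ V :=
  Over.homMk (pullback.fst j.left j'.left) rfl

/-- Second projection. -/
noncomputable abbrev ovl₂ {T V V' : Over S} (j : V ⟶ T) (j' : V' ⟶ T) : ovl j j' ⟶ V' :=
  Over.homMk (pullback.snd j.left j'.left) (by
    change pullback.snd j.left j'.left ≫ V'.hom = pullback.fst j.left j'.left ≫ V.hom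
    rw [← Over.w j', ← Over.w j, pullback.condition_assoc])

lemma isPullback_ovl {T V V' : Over S} (j : V ⟶ T) (j' : V' ⟶ T) :
    IsPullback (ovl₁ j j').left (ovl₂ j j').left j.left j'.left :=
  IsPullback.of_hasPullback j.left j'.left

lemma ovl_w {T V V' : Over S} (j : V ⟶ T) (j' : V' ⟶ T) : ovl₁ j j' ≫ j = ovl₂ j j' ≫ j' := by
  ext
  exact (isPullback_ovl j j').w

lemma exists_ovl_lift {T V V' U : Over S} {j : V ⟶ T} {j' : V' ⟶ T} (a : U ⟶ V) (b : U ⟶ V')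
    (h : a ≫ j = b ≫ j') : ∃ c : U ⟶ ovl j j', c ≫ ovl₁ j j' = a ∧ c ≫ ovl₂ j j' = b := by
  have h' : a.left ≫ j.left = b.left ≫ j'.left := congrArg CommaMorphism.left h
  refine ⟨Over.homMk (pullback.lift a.left b.left h') ?_, ?_, ?_⟩
  · change pullback.lift a.left b.left h' ≫ pullback.fst j.left j'.left ≫ V.hom = U.hom
    rw [pullback.lift_fst_assoc, Over.w a]
  · ext
    exact pullback.lift_fst _ _ _
  · ext
    exact pullback.lift_snd _ _ _

/-- The fpqc covering on `X_T`. -/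
lemma XT_mem_fpqc {T : Over S} {ι : Type v} {V : ι → Over S} {j : ∀ i, V i ⟶ T}
    (hj : Presieve.ofArrows (fun i ↦ (V i).left) (fun i ↦ (j i).left) ∈
      Scheme.fpqcPrecoverage T.left) :
    Presieve.ofArrows (fun i ↦ PicF.XT f (V i)) (fun i ↦ PicF.XTmap f (j i)) ∈
      Scheme.fpqcPrecoverage (PicF.XT f T) :=
  Precoverage.mem_coverings_of_isPullback _ hj (PicF.XTproj f T) _
    (fun i ↦ PicF.XTproj f (V i)) (fun i ↦ isPullback_XTmap f (j i))

variable {f w}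

/-! ### Arrows of rigidified modules on `X_T` -/

section arrT

variable {T T' T₁ T'' : Over S}

/-- Arrows over a morphism `g : T' ⟶ T` of `S`-schemes. -/
abbrev ArrT (g : T' ⟶ T) (R : RB (wT f w T)) (R' : RB (wT f w T')) : Type u :=
  Arr (wT_XTmap f w g) R R'

lemma ArrT.sim (hI : Inj f w) {g g₁ : T' ⟶ T} {R : RB (wT f w T)} {R' : RB (wT f w T')}
    (A : ArrT g R R') (B : ArrT g₁ R R') (h : g = g₁) : Sim A.θ B.θ := by
  subst h
  exact Sim.of_eq (IsArr.unique (wT_XTmap f w g) R.inv (hI T') A.isArr B.isArr)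

/-- Composition. -/
noncomputable def ArrT.comp {g : T' ⟶ T} {g' : T'' ⟶ T'} {R : RB (wT f w T)} {R' : RB (wT f w T')}
    {R'' : RB (wT f w T'')} (A : ArrT g R R') (B : ArrT g' R' R'') {h : T'' ⟶ T}
    (hh : g' ≫ g = h) : ArrT h R R'' where
  θ := (A.θ.comp B.θ).cast (by rw [← hh, XTmap_comp])
  isArr := by
    subst hh
    rw [isArr_iff_sim]
    have h1 : Sim ((A.θ.comp B.θ).comp R''.ρ)
        (R.ρ.comp (Fam.can (PicF.XTmap (w ≫ f) g' ≫ PicF.XTmap (w ≫ f) g))) :=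
      (isArr_iff_sim _).1 (IsArr.comp (wT_XTmap f w g) (wT_XTmap f w g')
        (comp_w (wT_XTmap f w g) (wT_XTmap f w g')) A.isArr B.isArr)
    refine ((Sim.cast_left _).comp_left _).trans (h1.trans ?_)
    rw [XTmap_comp]

lemma ArrT.sim_comp_θ {g : T' ⟶ T} {g' : T'' ⟶ T'} {R : RB (wT f w T)} {R' : RB (wT f w T')}
    {R'' : RB (wT f w T'')} (A : ArrT g R R') (B : ArrT g' R' R'') {h : T'' ⟶ T}
    (hh : g' ≫ g = h) : Sim (ArrT.comp A B hh).θ (A.θ.comp B.θ) :=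
  Sim.cast_left (by rw [← hh, XTmap_comp])

lemma ArrT.sim_comp (hI : Inj f w) {g : T' ⟶ T} {g' : T'' ⟶ T'} {h : T₁ ⟶ T} {h' : T'' ⟶ T₁}
    {R : RB (wT f w T)} {R' : RB (wT f w T')} {R₁ : RB (wT f w T₁)}
    {R'' : RB (wT f w T'')} (A : ArrT g R R') (B : ArrT g' R' R'') (A' : ArrT h R R₁)
    (B' : ArrT h' R₁ R'') (e : g' ≫ g = h' ≫ h) : Sim (A.θ.comp B.θ) (A'.θ.comp B'.θ) :=
  ((ArrT.sim_comp_θ A B rfl).symm.trans (ArrT.sim hI _ _ e)).trans (ArrT.sim_comp_θ A' B' rfl)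

lemma ArrT.simρ {g : T' ⟶ T} {R : RB (wT f w T)} {R' : RB (wT f w T')} (A : ArrT g R R') :
    Sim (A.θ.comp R'.ρ) (R.ρ.comp (Fam.can (PicF.XTmap (w ≫ f) g))) := (isArr_iff_sim _).1 A.isArr

lemma ArrT.map_cls {g : T' ⟶ T} {R : RB (wT f w T)} {R' : RB (wT f w T')} (A : ArrT g R R') :
    (rigF f w).map g.op R.cls = R'.cls := A.pull_eq

lemma map_cls_iff {g : T' ⟶ T} {R : RB (wT f w T)} {R' : RB (wT f w T')} :
    (rigF f w).map g.op R.cls = R'.cls ↔ Nonempty (ArrT g R R') := RCl.pull_eq_iff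

lemma exists_arrT (g : T' ⟶ T) (R : RB (wT f w T)) : ∃ R', Nonempty (ArrT g R R') :=
  exists_pull R (wT_XTmap f w g)

lemma exists_rep (c : (rigF f w).obj (op T)) : ∃ R : RB (wT f w T), R.cls = c := RCl.exists_rep c

/-- Filling. -/
lemma nonempty_arrT_of_comp {g : T' ⟶ T} {g' : T'' ⟶ T'} {h : T'' ⟶ T} {R : RB (wT f w T)}
    {R' : RB (wT f w T')} {R'' : RB (wT f w T'')} (A : ArrT g R R') (C : ArrT h R R'')
    (hh : g' ≫ g = h) : Nonempty (ArrT g' R' R'') := by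
  rw [← map_cls_iff, ← A.map_cls, ← C.map_cls, ← Picfga.OverRep.map_comp_apply, hh]

lemma nonempty_arrT_of_eq {V : Over S} {g : T' ⟶ T} {h : V ⟶ T} {g' : T'' ⟶ T'} {h' : T'' ⟶ V}
    {R : RB (wT f w T')} {R₁ : RB (wT f w V)} {R'' : RB (wT f w T'')} {x : (rigF f w).obj (op T)}
    (hR : (rigF f w).map g.op x = R.cls) (hR₁ : (rigF f w).map h.op x = R₁.cls)
    (A : ArrT g' R R'') (e : g' ≫ g = h' ≫ h) : Nonempty (ArrT h' R₁ R'') := by
  rw [← map_cls_iff, ← A.map_cls, ← hR, ← hR₁, ← Picfga.OverRep.map_comp_apply,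
    ← Picfga.OverRep.map_comp_apply, e]

end arrT

section descent

variable (hI : Inj f w) {T : Over S} {ι : Type u} {V : ι → Over S} {j : ∀ i, V i ⟶ T}
  (hj : Presieve.ofArrows (fun i ↦ (V i).left) (fun i ↦ (j i).left) ∈ Scheme.fpqcPrecoverage T.left)

include hI hj

/-- Injectivity. -/
lemma cls_eq_of_fpqc {c c' : (rigF f w).obj (op T)}
    (h : ∀ i, (rigF f w).map (j i).op c = (rigF f w).map (j i).op c') : c = c' := by
  obtain ⟨R, rfl⟩ := exists_rep c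
  obtain ⟨R', rfl⟩ := exists_rep c'
  choose Q A using fun i ↦ exists_arrT (j i) R
  replace A := fun i ↦ (A i).some
  have A' : ∀ i, ArrT (j i) R' (Q i) := fun i ↦
    (map_cls_iff.1 ((h i).symm.trans (A i).map_cls)).some
  -- common pull backs on the overlaps
  choose P B using fun i k ↦ exists_arrT (ovl₁ (j i) (j k)) (Q i)
  replace B := fun i k ↦ (B i k).some
  have B' : ∀ i k, ArrT (ovl₂ (j i) (j k)) (Q k) (P i k) := fun i k ↦
    (nonempty_arrT_of_eq (A i).map_cls (A k).map_cls (B i k) (ovl_w (j i) (j k))).some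
  obtain ⟨φ, hφ⟩ := exists_fam_overlap (σ := 𝟙 (PicF.XT f T)) R'.inv (XT_mem_fpqc f hj)
    (fun i ↦ (A' i).θ) (fun i k ↦ isPullback_XTmap₂ f (isPullback_ovl (j i) (j k)))
    (fun i k ↦ (B i k).θ) (fun i k ↦ (B' i k).θ)
    (fun i k ↦ ArrT.sim_comp hI (A' i) (B i k) (A' k) (B' i k) (ovl_w _ _))
    (fun i ↦ (A i).θ.cast (Category.comp_id _).symm)
    (fun i k ↦ (((Sim.cast_left (Category.comp_id _).symm).comp_left _).trans
        (ArrT.sim_comp hI (A i) (B i k) (A k) (B' i k) (ovl_w _ _))).trans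
        ((Sim.cast_right (Category.comp_id _).symm).comp_left _))
  refine RB.cls_eq_iff.2 ⟨⟨φ, ?_⟩⟩
  rw [isArr_iff_sim]
  refine ⟨by simp, ?_⟩
  -- check on the covering of `W_T`
  refine fam_ext (N := Coh.structureModule _) (N' := fun i ↦ Coh.structureModule _) ?_
    (XT_mem_fpqc (w ≫ f) hj) (fun i ↦ Fam.can _) (fun i ↦ ?_)
  · rw [isInvertible_iff]
    exact fun y ↦ ⟨⊤, one ⊤, trivial, isGen_one ⊤⟩
  have h1 : Sim (R'.ρ.comp (Fam.can (PicF.XTmap (w ≫ f) (j i)))) ((A' i).θ.comp (Q i).ρ) :=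
    ((isArr_iff_sim _).1 (A' i).isArr).symm
  have h2 : Sim (R.ρ.comp (Fam.can (PicF.XTmap (w ≫ f) (j i)))) ((A i).θ.comp (Q i).ρ) :=
    ((isArr_iff_sim _).1 (A i).isArr).symm
  have h3 : Sim (φ.comp (A' i).θ) (A i).θ := (Sim.of_eq (hφ i)).trans (Sim.cast_left _)
  refine ((Sim.cast_left _).comp_left _).trans ?_
  refine (Sim.comp_right φ h1).trans ?_
  refine (h3.comp_left (Q i).ρ).trans (h2.symm.trans ?_)
  exact Sim.comp_right R.ρ (can_comp_can (𝟙 _) (PicF.XTmap (w ≫ f) (j i)) (Category.comp_id _)).symm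

/-- Existence. -/
lemma exists_of_fpqc (x : ∀ i, (rigF f w).obj (op (V i)))
    (hx : ∀ (i k : ι) (U : Over S) (a : U ⟶ V i) (b : U ⟶ V k), a ≫ j i = b ≫ j k →
      (rigF f w).map a.op (x i) = (rigF f w).map b.op (x k)) :
    ∃ y : (rigF f w).obj (op T), ∀ i, (rigF f w).map (j i).op y = x i := by
  choose R hR using fun i ↦ exists_rep (x i)
  -- common pull backs on the overlaps
  choose P B using fun i k ↦ exists_arrT (ovl₁ (j i) (j k)) (R i)
  replace B := fun i k ↦ (B i k).some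
  have B' : ∀ i k, ArrT (ovl₂ (j i) (j k)) (R k) (P i k) := fun i k ↦ by
    refine (map_cls_iff.1 ?_).some
    rw [hR, ← (B i k).map_cls, hR]
    exact (hx i k _ _ _ (ovl_w (j i) (j k))).symm
  let U3 : ∀ _ _ _ : ι, Over S := fun i k l ↦ ovl (ovl₂ (j i) (j k)) (ovl₁ (j k) (j l))
  let r₁₂ : ∀ i k l, U3 i k l ⟶ ovl (j i) (j k) := fun i k l ↦ ovl₁ _ _
  let r₂₃ : ∀ i k l, U3 i k l ⟶ ovl (j k) (j l) := fun i k l ↦ ovl₂ _ _
  have hr : ∀ i k l, r₁₂ i k l ≫ ovl₂ (j i) (j k) = r₂₃ i k l ≫ ovl₁ (j k) (j l) :=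
    fun i k l ↦ ovl_w _ _
  have hr' : ∀ i k l, (r₁₂ i k l ≫ ovl₁ (j i) (j k)) ≫ j i =
      (r₂₃ i k l ≫ ovl₂ (j k) (j l)) ≫ j l := fun i k l ↦ by
    rw [Category.assoc, ovl_w, reassoc_of% (hr i k l), ovl_w, Category.assoc]
  choose r₁₃ h1 h2 using fun i k l ↦ exists_ovl_lift (r₁₂ i k l ≫ ovl₁ (j i) (j k))
    (r₂₃ i k l ≫ ovl₂ (j k) (j l)) (hr' i k l)
  choose Q C₁₂ using fun i k l ↦ exists_arrT (r₁₂ i k l) (P i k)
  replace C₁₂ := fun i k l ↦ (C₁₂ i k l).some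
  have C₂₃ : ∀ i k l, ArrT (r₂₃ i k l) (P k l) (Q i k l) := fun i k l ↦
    (nonempty_arrT_of_eq (B' i k).map_cls (B k l).map_cls (C₁₂ i k l) (hr i k l)).some
  have C₁₃ : ∀ i k l, ArrT (r₁₃ i k l) (P i l) (Q i k l) := fun i k l ↦
    (nonempty_arrT_of_eq (B i k).map_cls (B i l).map_cls (C₁₂ i k l) (h1 i k l).symm).some
  let O : Overlap (fun i ↦ PicF.XTmap f (j i)) (fun i ↦ (R i).L) :=
    { P := fun i k ↦ PicF.XT f (ovl (j i) (j k))
      q₁ := fun i k ↦ PicF.XTmap f (ovl₁ (j i) (j k))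
      q₂ := fun i k ↦ PicF.XTmap f (ovl₂ (j i) (j k))
      isPb := fun i k ↦ isPullback_XTmap₂ f (isPullback_ovl (j i) (j k))
      M := fun i k ↦ (P i k).L
      θ₁ := fun i k ↦ (B i k).θ
      θ₂ := fun i k ↦ (B' i k).θ
      coc := fun i k l ↦ ⟨PicF.XT f (U3 i k l), PicF.XTmap f (r₁₂ i k l), PicF.XTmap f (r₂₃ i k l),
        PicF.XTmap f (r₁₃ i k l), (Q i k l).L, (C₁₂ i k l).θ, (C₂₃ i k l).θ, (C₁₃ i k l).θ,
        ArrT.sim_comp hI _ _ _ _ (h1 i k l).symm, ArrT.sim_comp hI _ _ _ _ (hr i k l),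
        ArrT.sim_comp hI _ _ _ _ (h2 i k l).symm, fun Z a b c hab hbc ↦ by
          have hp1 := isPullback_XTmap₂ f (isPullback_ovl (j i) (j k))
          have hp2 := isPullback_XTmap₂ f (isPullback_ovl (j k) (j l))
          have hp3 := isPullback_XTmap₂ f (isPullback_ovl (ovl₂ (j i) (j k)) (ovl₁ (j k) (j l)))
          refine ⟨hp3.lift (hp1.lift a b hab) (hp2.lift b c hbc) (by simp), ?_, ?_, ?_⟩
          · rw [hp3.lift_fst_assoc, hp1.lift_fst]
          · rw [hp3.lift_fst_assoc, hp1.lift_snd]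
          · rw [hp3.lift_snd_assoc, hp2.lift_snd]⟩ }
  obtain ⟨M, hM, θ, hθ⟩ := O.exists_desc (fun i ↦ (R i).inv) (XT_mem_fpqc f hj)
  have hO : PicF.IsInvertible (Coh.structureModule (PicF.XT (w ≫ f) T)) := by
    rw [isInvertible_iff]
    exact fun y ↦ ⟨⊤, one ⊤, trivial, isGen_one ⊤⟩
  obtain ⟨ρ, hρ⟩ := exists_fam_overlap (σ := wT f w T) hO (XT_mem_fpqc (w ≫ f) hj)
    (fun i ↦ Fam.can _) (fun i k ↦ isPullback_XTmap₂ (w ≫ f) (isPullback_ovl (j i) (j k)))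
    (fun i k ↦ Fam.can _) (fun i k ↦ Fam.can _)
    (fun i k ↦ (can_comp_can _ _ rfl).trans (can_comp_can _ _ (by
      rw [← XTmap_comp, ← XTmap_comp, ovl_w])).symm)
    (fun i ↦ ((θ i).comp (R i).ρ).cast (wT_XTmap f w (j i)))
    (fun i k ↦ by
      have e1 := (ArrT.simρ (B i k)).comp_right (θ i)
      have e2 := (ArrT.simρ (B' i k)).comp_right (θ k)
      refine ((Sim.cast_left (wT_XTmap f w (j i))).comp_left _).trans ?_
      refine Sim.trans ?_ ((Sim.cast_right (wT_XTmap f w (j k))).comp_left _)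
      exact e1.symm.trans (((hθ i k).comp_left (P i k).ρ).trans e2))
  refine ⟨RB.cls ⟨M, hM, ρ⟩, fun i ↦ ?_⟩
  rw [← hR i, map_cls_iff]
  refine ⟨⟨θ i, ?_⟩⟩
  rw [isArr_iff_sim]
  exact (Sim.cast_right (wT_XTmap f w (j i))).trans (Sim.of_eq (hρ i).symm)

end descent

/-- **The rigidified Picard functor is an fpqc sheaf.** -/
theorem isFpqcSheaf_rigF (hI : Inj f w) : IsFpqcSheaf (rigF f w) := by
  intro T ι V j hj x hx
  obtain ⟨y, hy⟩ := exists_of_fpqc hI hj x hx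
  exact ⟨y, hy, fun y' hy' ↦ cls_eq_of_fpqc hI hj fun i ↦ (hy' i).trans (hy i).symm⟩

end Groth.Agent.Pic13.H602.Rig
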