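import Groth.Agent.Pic13.H602.InjField
import Groth.Agent.Pic13.H955.RepDef

/-!
# Descent of rigidified line bundles along finite locally free morphisms
-/

set_option autoImplicit false

universe v u

open CategoryTheory CategoryTheory.Limits AlgebraicGeometry TopologicalSpace Opposite

namespace Groth.Agent.Pic13.H602.Rig

open Groth.Agent.Pic13.H955.FinDesc

/-- fpqc sheaves satisfy descent along finite locally free surjective morphisms. -/
theorem IsFpqcSheaf.isFlfSheaf {S : Scheme.{u}} {F : (Over S)ᵒᵖ ⥤ Type v} (h : IsFpqcSheaf F) :
    IsFlfSheaf F := by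
  intro T T' g hg hs x hx
  have := hg.1
  have := hg.2.1
  exact h.single g x hx

/-- `Inj` for a proper scheme over a field and a finite rigidificator. -/
theorem inj_of_isFinite {X W : Scheme.{u}} {k : Type u} [Field k] (f : X ⟶ Spec (CommRingCat.of k))
    (w : W ⟶ X) [QuasiCompact f] [QuasiSeparated f] (hw : IsFinite (w ≫ f))
    (h : Function.Injective w.appTop.hom) : Inj f w := by
  have : CompactSpace X := QuasiCompact.compactSpace_of_compactSpace f
  have : CompactSpace W := QuasiCompact.compactSpace_of_compactSpace (w ≫ f)
  have : QuasiSeparatedSpace X := quasiSeparatedSpace_of_quasiSeparated f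
  have : QuasiSeparatedSpace W := quasiSeparatedSpace_of_quasiSeparated (w ≫ f)
  exact inj_of_field f w h

/-- **(F)** The rigidified Picard functor of a proper scheme over a field satisfies descent along
finite locally free surjective morphisms. -/
theorem isFlfSheaf_rigF {X W : Scheme.{u}} {k : Type u} [Field k] (f : X ⟶ Spec (CommRingCat.of k))
    (w : W ⟶ X) [QuasiCompact f] [QuasiSeparated f] (hw : IsFinite (w ≫ f))
    (h : Function.Injective w.appTop.hom) : IsFlfSheaf (rigF f w) :=
  (isFpqcSheaf_rigF (inj_of_isFinite f w hw h)).isFlfSheaf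

end Groth.Agent.Pic13.H602.Rig
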