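import Groth.Agent.Pic13.H602.ChangeW
import Groth.Agent.Pic13.H602.RigFlf

/-!
# Rule (0): change of the rigidificator over a field

`IsomStmt`: existence of the scheme of isomorphisms of two invertible modules (proved in `Pic13.H546.IsomAff`).
-/

set_option autoImplicit false

universe v u

open CategoryTheory CategoryTheory.Limits AlgebraicGeometry TopologicalSpace Opposite

namespace Groth.Agent.Pic13.H602.Rule0

open Groth.Agent.Picfga.LineFam Groth.Agent.Pic13.H602.Rig Groth.Agent.Pic13.H17.IsomDef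
  Groth.Agent.Pic13.H955.FinDesc Groth.Agent.Pic13.H955.RepDef

/-- Existence of the scheme of isomorphisms of two invertible modules. -/
def IsomStmt : Prop :=
  ∀ {Z S : Scheme.{u}} (p : Z ⟶ S) [IsProper p] [Flat p] (T : Over S) [IsLocallyNoetherian T.left]
    {P Q : (PicF.XT p T).Modules}, PicF.IsInvertible P → PicF.IsInvertible Q →
    ∃ (I : Over S) (a : I ⟶ T) (N : (PicF.XT p I).Modules) (κ₁ : Fam (PicF.XTmap p a) P N)
      (κ₂ : Fam (PicF.XTmap p a) Q N), IsAffineHom a.left ∧ LocallyOfFiniteType a.left ∧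
      IsIsom p P Q a κ₁ κ₂

/-- The scheme of trivializations. -/
theorem exists_triv (hIsom : IsomStmt.{u}) {Z S : Scheme.{u}} (p : Z ⟶ S) [IsProper p] [Flat p]
    (T : Over S) [IsLocallyNoetherian T.left] {L : (PicF.XT p T).Modules}
    (hL : PicF.IsInvertible L) : ∃ (I : Over S) (a : I ⟶ T)
      (κ : Fam (PicF.XTmap p a) L (Coh.structureModule (PicF.XT p I))),
      IsTriv p L a κ ∧ IsAffineHom a.left ∧ LocallyOfFiniteType a.left := by
  obtain ⟨I, a, N, κ₁, κ₂, h1, h2, h3⟩ := hIsom p T hL (isInv_structureModule _)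
  obtain ⟨κ, hκ⟩ := exists_isTriv h3
  exact ⟨I, a, κ, hκ, h1, h2⟩

/-- Change of the rigidificator over a locally Noetherian base `S` over which `W` and `V` are flat and finite. -/
theorem exists_univ (hIsom : IsomStmt.{u}) {X S W V : Scheme.{u}} (f : X ⟶ S) (w : W ⟶ X)
    (v : V ⟶ W) (hI : Inj f (v ≫ w)) [IsProper (w ≫ f)] [Flat (w ≫ f)] [IsProper ((v ≫ w) ≫ f)]
    [Flat ((v ≫ w) ≫ f)] {P' : Over S} [IsLocallyNoetherian P'.left]
    {ξ' : (rigF f (v ≫ w)).obj (op P')} (h : IsUniv (rigF f (v ≫ w)) P' ξ') :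
    ∃ (P : Over S) (a : P ⟶ P') (ξ : (rigF f w).obj (op P)), IsUniv (rigF f w) P ξ ∧
      IsAffineHom a.left ∧ LocallyOfFiniteType a.left ∧
      ∃ (R' : RB (wT f (v ≫ w) P')) (R : RB (wT f w P)), R'.cls = ξ' ∧ R.cls = ξ ∧
        Nonempty (ArrT a R' (resRB v R)) := by
  obtain ⟨R', rfl⟩ := exists_rep ξ'
  obtain ⟨P, a, R, h1, h2, h3, h4⟩ := exists_changeW v hI R' h
    (fun L hL ↦ exists_triv hIsom (w ≫ f) P' hL)
    (fun I a _ _ L hL ↦ by
      have : IsLocallyNoetherian I.left := LocallyOfFiniteType.isLocallyNoetherian a.left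
      obtain ⟨J, b, κ, hκ, hb, -⟩ := exists_triv hIsom ((v ≫ w) ≫ f) I hL
      exact ⟨J, b, κ, hκ, inferInstance⟩)
  exact ⟨P, a, R.cls, h1, h3, h4, R', R, rfl, rfl, h2⟩

/-- **Rule (0).** -/
theorem repW_of_comp (hIsom : IsomStmt.{u}) {k : Type u} [Field k] {X W V : Scheme.{u}}
    (f : X ⟶ Spec (CommRingCat.of k)) (w : W ⟶ X) (v : V ⟶ W) [QuasiCompact f] [QuasiSeparated f]
    (hw : IsFinite (w ≫ f)) (hv : IsFinite ((v ≫ w) ≫ f))
    (hinj : Function.Injective (v ≫ w).appTop.hom) (h : RepW f (v ≫ w)) : RepW f w := by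
  obtain ⟨P', ξ', h1, h2⟩ := h
  have : IsLocallyNoetherian P'.left := LocallyOfFiniteType.isLocallyNoetherian P'.hom
  obtain ⟨P, a, ξ, hξ, ha, ha', -⟩ := exists_univ hIsom f w v (inj_of_isFinite f (v ≫ w) hv hinj) h1
  refine ⟨P, ξ, hξ, ?_⟩
  rw [← Over.w a]
  infer_instance

end Groth.Agent.Pic13.H602.Rule0
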