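import Groth.Agent.Pic13.H602.Rig

/-!
# Equality of families over equal morphisms

`Sim F F'`: `F : Fam G L L'` and `F' : Fam G₁ L L'` with `G = G₁` agree.
-/

set_option autoImplicit false
set_option backward.isDefEq.respectTransparency false

universe v u

open CategoryTheory CategoryTheory.Limits AlgebraicGeometry TopologicalSpace Opposite

namespace Groth.Agent.Pic13.H602.Rig

open Groth.Agent.Fdesc Groth.Agent.Fdesc.LocGen Groth.Agent.Picfga.LineHom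
  Groth.Agent.Picfga.LineDescent Groth.Agent.Picfga.LineFam

variable {Y Y' Y'' : Scheme.{u}}

/-- Equality of families over (propositionally) equal morphisms. -/
def Sim {G G₁ : Y' ⟶ Y} {L : Y.Modules} {L' : Y'.Modules} (F : Fam G L L') (F' : Fam G₁ L L') :
    Prop := ∃ h : G = G₁, F.cast h = F'

namespace Sim

variable {G G₁ G₂ : Y' ⟶ Y} {L : Y.Modules} {L' : Y'.Modules}

lemma hom_eq {F : Fam G L L'} {F' : Fam G₁ L L'} (h : Sim F F') : G = G₁ := h.1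

@[refl]
lemma refl (F : Fam G L L') : Sim F F := ⟨rfl, Fam.cast_rfl F⟩

lemma eq {F F' : Fam G L L'} (h : Sim F F') : F = F' := by
  obtain ⟨h, h'⟩ := h
  rw [Fam.cast_rfl] at h'
  exact h'

lemma of_eq {F F' : Fam G L L'} (h : F = F') : Sim F F' := h ▸ refl F

lemma iff_eq {F F' : Fam G L L'} : Sim F F' ↔ F = F' := ⟨eq, of_eq⟩

lemma cast_left {F : Fam G L L'} (h : G = G₁) : Sim (F.cast h) F := by
  subst h
  exact of_eq (Fam.cast_rfl F)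

lemma cast_right {F : Fam G L L'} (h : G = G₁) : Sim F (F.cast h) := ⟨h, rfl⟩

@[symm]
lemma symm {F : Fam G L L'} {F' : Fam G₁ L L'} (h : Sim F F') : Sim F' F := by
  obtain ⟨h, rfl⟩ := h
  exact cast_left h

@[trans]
lemma trans {F : Fam G L L'} {F' : Fam G₁ L L'} {F'' : Fam G₂ L L'} (h : Sim F F')
    (h' : Sim F' F'') : Sim F F'' := by
  obtain ⟨rfl, h⟩ := h
  obtain ⟨rfl, h'⟩ := h'
  rw [Fam.cast_rfl] at h h'
  exact of_eq (h.trans h')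

lemma comp {G' G₁' : Y'' ⟶ Y'} {L'' : Y''.Modules} {F : Fam G L L'} {F₁ : Fam G₁ L L'}
    {K : Fam G' L' L''} {K₁ : Fam G₁' L' L''} (h : Sim F F₁) (h' : Sim K K₁) :
    Sim (F.comp K) (F₁.comp K₁) := by
  obtain ⟨rfl, h⟩ := h
  obtain ⟨rfl, h'⟩ := h'
  rw [Fam.cast_rfl] at h h'
  rw [h, h']

lemma comp_left {G' : Y'' ⟶ Y'} {L'' : Y''.Modules} {F : Fam G L L'} {F₁ : Fam G₁ L L'}
    (h : Sim F F₁) (K : Fam G' L' L'') : Sim (F.comp K) (F₁.comp K) := comp h (refl K)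

lemma comp_right {G' G₁' : Y'' ⟶ Y'} {L'' : Y''.Modules} (F : Fam G L L')
    {K : Fam G' L' L''} {K₁ : Fam G₁' L' L''} (h' : Sim K K₁) :
    Sim (F.comp K) (F.comp K₁) := comp (refl F) h'

/-- Cancellation. -/
lemma cancel {G' G₁' : Y'' ⟶ Y'} {L'' : Y''.Modules} (hL : PicF.IsInvertible L) (F : Fam G L L')
    {K : Fam G' L' L''} {K₁ : Fam G₁' L' L''} (hG : G' = G₁')
    (h : Sim (F.comp K) (F.comp K₁)) : Sim K K₁ := by
  subst hG
  exact of_eq (fill_unique hL F h.eq)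

lemma cancel' {G' G₁' : Y'' ⟶ Y'} {L'' : Y''.Modules} (hL : PicF.IsInvertible L) {F : Fam G L L'}
    {F₁ : Fam G₁ L L'} (hF : Sim F F₁)
    {K : Fam G' L' L''} {K₁ : Fam G₁' L' L''} (hG : G' = G₁')
    (h : Sim (F.comp K) (F₁.comp K₁)) : Sim K K₁ :=
  cancel hL F hG (h.trans (hF.symm.comp_left K₁))

lemma map_eq {F : Fam G L L'} {F' : Fam G₁ L L'} (h : Sim F F') {U : Y.Opens} (s : Γ(L, U))
    (hU : G₁ ⁻¹ᵁ U ≤ G ⁻¹ᵁ U) : LocGen.res L' hU (F.map s) = F'.map s := by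
  obtain ⟨rfl, h⟩ := h
  rw [Fam.cast_rfl] at h
  subst h
  exact res_refl _ _

lemma on_eq {F : Fam G L L'} {F' : Fam G₁ L L'} (h : Sim F F') {U : Y.Opens} {N : Y'.Opens}
    (h₁ : N ≤ G ⁻¹ᵁ U) (h₂ : N ≤ G₁ ⁻¹ᵁ U) (s : Γ(L, U)) : F.on h₁ s = F'.on h₂ s := by
  obtain ⟨rfl, h⟩ := h
  rw [Fam.cast_rfl] at h
  rw [h]

/-- `Sim` can be checked on local generators. -/
lemma of_gens {ι : Type v} {U : ι → Y.Opens} (hU : ⨆ i, U i = ⊤)
    {e : ∀ i, Γ(L, U i)} (he : ∀ i, IsGen (e i)) {F : Fam G L L'} {F' : Fam G₁ L L'} (hG : G = G₁)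
    (h : ∀ i, LocGen.res L' (le_of_eq (by rw [hG])) (F.map (e i)) = F'.map (e i)) : Sim F F' := by
  subst hG
  refine of_eq (Fam.ext_of_gens hU he fun i ↦ ?_)
  rw [← h i]
  exact (res_refl _ _).symm

end Sim

/-- Filling up to `Sim`. -/
lemma exists_fill_sim {G : Y' ⟶ Y} {G' : Y'' ⟶ Y'} {H : Y'' ⟶ Y} {L : Y.Modules} {L' : Y'.Modules}
    {L'' : Y''.Modules} (hL : PicF.IsInvertible L) (θ : Fam G L L') (θ' : Fam H L L'')
    (h : G' ≫ G = H) : ∃ κ : Fam G' L' L'', Sim (θ.comp κ) θ' := by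
  subst h
  obtain ⟨κ, rfl⟩ := exists_fill hL θ θ'
  exact ⟨κ, Sim.refl _⟩

lemma isArr_iff_sim {T T' : Scheme.{u}} {σ : T ⟶ Y} {σ' : T' ⟶ Y'} {G : Y' ⟶ Y} {g : T' ⟶ T}
    (w : σ' ≫ G = g ≫ σ) {L : Y.Modules} {L' : Y'.Modules}
    {ρ : Fam σ L (Coh.structureModule T)} {ρ' : Fam σ' L' (Coh.structureModule T')}
    {θ : Fam G L L'} : IsArr w ρ ρ' θ ↔ Sim (θ.comp ρ') (ρ.comp (Fam.can g)) :=
  ⟨fun h ↦ ⟨w, h⟩, fun ⟨_, h⟩ ↦ h⟩

end Groth.Agent.Pic13.H602.Rig
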