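import Groth.Agent.Pic13.H602.RigDesc
import Groth.Agent.Flat2C.FlatDesc399

/-!
# Injectivity of `Γ(X_T) → Γ(W_T)`

* `inj_of_affine`: it is enough to check it for affine `T`;
* `inj_of_flat`: over a field it follows from the injectivity of `Γ(X) → Γ(W)`.
-/

set_option autoImplicit false
set_option backward.isDefEq.respectTransparency false

universe v u

open CategoryTheory CategoryTheory.Limits AlgebraicGeometry TopologicalSpace Opposite

namespace Groth.Agent.Pic13.H602.Rig

open Groth.Agent.Fdesc Groth.Agent.Fdesc.LocGen Groth.Agent.Picfga.LineHom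
  Groth.Agent.Picfga.LineDescent Groth.Agent.Picfga.LineFam Groth.Agent.Picfga.HilbPull
  Groth.Agent.Pic13.H602.FamDesc

variable {X S W : Scheme.{u}} (f : X ⟶ S) (w : W ⟶ X)

lemma isInvertible_structureModule (Y : Scheme.{u}) : PicF.IsInvertible (Coh.structureModule Y) := by
  rw [isInvertible_iff]
  exact fun y ↦ ⟨⊤, one ⊤, trivial, isGen_one ⊤⟩

/-- Global functions which agree on an fpqc covering are equal. -/
lemma appTop_ext {Y : Scheme.{u}} {ι : Type v} {Y' : ι → Scheme.{u}} (p : ∀ i, Y' i ⟶ Y)
    (hp : Presieve.ofArrows Y' p ∈ Scheme.fpqcPrecoverage Y) {a b : Γ(Y, ⊤)}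
    (h : ∀ i, (p i).appTop a = (p i).appTop b) : a = b := by
  have h1 : (ofFun a : Γ(Coh.structureModule Y, ⊤)) = ofFun b :=
    sec_ext (N' := fun i ↦ Coh.structureModule (Y' i)) (isInvertible_structureModule Y) hp
      (fun i ↦ Fam.can (p i)) (fun i ↦ by
        rw [Fam.can_map, Fam.can_map, AddEquiv.symm_apply_apply, AddEquiv.symm_apply_apply]
        exact congrArg ofFun (h i))
  exact ofFun.injective h1

/-- The open covering of `T` by its affine opens. -/
noncomputable def affCov (T : Over S) : Picfga.OverRep.Cov T where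
  ι := T.left.affineOpens
  V U := Over.mk (U.1.ι ≫ T.hom)
  j U := Picfga.OverRep.res T U.1
  isOpen U := inferInstanceAs (IsOpenImmersion U.1.ι)
  covers t := by
    obtain ⟨V, hV, hyV, -⟩ := Opens.isBasis_iff_nbhd.1 T.left.isBasis_affineOpens
      (show t ∈ (⊤ : T.left.Opens) from trivial)
    exact ⟨⟨V, hV⟩, ⟨t, hyV⟩, rfl⟩

lemma cov_mem_fpqc {T : Over S} (𝒰 : Picfga.OverRep.Cov T) :
    Presieve.ofArrows (fun i ↦ (𝒰.V i).left) (fun i ↦ (𝒰.j i).left) ∈
      Scheme.fpqcPrecoverage T.left := by
  apply Scheme.zariskiPrecoverage_le_fpqcPrecoverage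
  rw [Scheme.ofArrows_mem_precoverage_iff]
  exact ⟨fun t ↦ 𝒰.covers t, fun i ↦ 𝒰.isOpen i⟩

/-- It is enough to check injectivity over affine bases. -/
lemma inj_of_affine (h : ∀ T : Over S, IsAffine T.left → Function.Injective (wT f w T).appTop) :
    Inj f w := by
  intro T a b hab
  refine appTop_ext _ (XT_mem_fpqc f (cov_mem_fpqc (affCov T))) fun U ↦ ?_
  apply h ((affCov T).V U) U.2
  have h1 := fun c ↦ congr($(congrArg Scheme.Hom.appTop (wT_XTmap f w ((affCov T).j U))) c)
  have h2 : ∀ c, (wT f w ((affCov T).V U)).appTop ((PicF.XTmap f ((affCov T).j U)).appTop c) =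
      (PicF.XTmap (w ≫ f) ((affCov T).j U)).appTop ((wT f w T).appTop c) := by
    intro c
    exact h1 c
  rw [h2, h2, hab]

/-- Flat base change of an injective map of rings. -/
lemma injective_of_isPushout {A B A' B' : CommRingCat.{u}} {φ : A ⟶ B} {i : A ⟶ A'} {j : B ⟶ B'}
    {φ' : A' ⟶ B'} (h : IsPushout φ i j φ') (hi : i.hom.Flat) (hφ : Function.Injective φ) :
    Function.Injective φ' := by
  have h1 : pushout.inr φ i ≫ h.isoPushout.inv = φ' := h.inr_isoPushout_inv
  rw [← h1]
  exact (ConcreteCategory.bijective_of_isIso h.isoPushout.inv).injective.comp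
    (CommRingCat.inr_injective_of_flat φ i hφ hi)

/-- Flat base change of an injective map of rings, other side. -/
lemma injective_of_isPushout' {A B A' B' : CommRingCat.{u}} {φ : A ⟶ B} {i : A ⟶ A'} {j : B ⟶ B'}
    {φ' : A' ⟶ B'} (h : IsPushout i φ φ' j) (hi : i.hom.Flat) (hφ : Function.Injective φ) :
    Function.Injective φ' := injective_of_isPushout h.flip hi hφ

/-- **Rigidity over a base over which everything is flat** (for instance a field): it is enough
that `Γ(X) → Γ(W)` is injective. -/
theorem inj_of_flat [IsAffine S] (hS : ∀ T : Over S, Flat T.hom) [CompactSpace X]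
    [QuasiSeparatedSpace X] [CompactSpace W] [QuasiSeparatedSpace W]
    (h : Function.Injective w.appTop) : Inj f w := by
  refine inj_of_affine f w fun T hT ↦ ?_
  have := hS T
  have h1 := Flat2C.FlatDesc399.isPushout_appTop (IsPullback.of_hasPullback (w ≫ f) T.hom)
    (IsPullback.of_hasPullback f T.hom) rfl (wT_snd f w T) (wT_fst f w T)
  refine injective_of_isPushout h1 ?_ h
  have h2 := Groth.Agent.Desc.QAffDesc.isPushout_appTop_of_flat (IsPullback.of_hasPullback f T.hom)
  exact Flat2C.FlatDesc399.baseChange_of_isPushout RingHom.Flat.isStableUnderBaseChange h2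
    T.hom.flat_appTop

/-- Over a field. -/
theorem inj_of_field {k : Type u} [Field k] (f : X ⟶ Spec (CommRingCat.of k)) (w : W ⟶ X)
    [CompactSpace X] [QuasiSeparatedSpace X] [CompactSpace W] [QuasiSeparatedSpace W]
    (h : Function.Injective w.appTop) : Inj f w :=
  inj_of_flat f w (fun _ ↦ inferInstance) h

end Groth.Agent.Pic13.H602.Rig
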