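import Groth.Agent.Pic13.H602.RigDesc
import Groth.Agent.Pic13.H17.IsomDef
import Mathlib.AlgebraicGeometry.Morphisms.Separated
import Mathlib.AlgebraicGeometry.Morphisms.Affine
import Mathlib.AlgebraicGeometry.Morphisms.FiniteType

/-!
# Change of the rigidificator

* `IsTriv`: the universal trivialization of an invertible module;
* `exists_changeW`: `v : V ⟶ W`, `w : W ⟶ X`: the functor `rigF f w` is represented by a scheme affine over the scheme
  representing `rigF f (v ≫ w)`, if the schemes of trivializations for `V`, `W` exist and are affine.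
-/

set_option autoImplicit false
set_option backward.isDefEq.respectTransparency false

universe v u

open CategoryTheory CategoryTheory.Limits AlgebraicGeometry TopologicalSpace Opposite

namespace Groth.Agent.Pic13.H602.Rig

open Groth.Agent.Fdesc Groth.Agent.Fdesc.LocGen Groth.Agent.Picfga.LineHom
  Groth.Agent.Picfga.LineDescent Groth.Agent.Picfga.LineFam Groth.Agent.Picfga.HilbPull
  Groth.Agent.Pic13.H602.FamDesc Groth.Agent.Pic13.H17.IsomDef

open Groth.Agent.Desc.QD (PB)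

/-- Associativity. -/
lemma sim_assoc {Y Y' Y'' Y₃ : Scheme.{u}} {G : Y' ⟶ Y} {G' : Y'' ⟶ Y'} {G'' : Y₃ ⟶ Y''}
    {L : Y.Modules} {L' : Y'.Modules} {L'' : Y''.Modules} {L₃ : Y₃.Modules} (θ : Fam G L L')
    (θ' : Fam G' L' L'') (θ'' : Fam G'' L'' L₃) :
    Sim ((θ.comp θ').comp θ'') (θ.comp (θ'.comp θ'')) := ⟨Category.assoc _ _ _ |>.symm, by
      refine Fam.ext' fun U s ↦ ?_
      rw [Fam.cast_map]
      exact res_refl _ _⟩

/-- `(a : I ⟶ T, κ)` is the universal trivialization of `L` on `Z_T`. -/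
def IsTriv {Z S : Scheme.{u}} (p : Z ⟶ S) {T : Over S} (L : (PicF.XT p T).Modules)
    {I : Over S} (a : I ⟶ T) (κ : Fam (PicF.XTmap p a) L (Coh.structureModule (PicF.XT p I))) :
    Prop :=
  ∀ (T' : Over S) (h : T' ⟶ T) (κ' : Fam (PicF.XTmap p h) L (Coh.structureModule (PicF.XT p T'))),
    ∃! g : T' ⟶ I, g ≫ a = h ∧ Sim (κ.comp (Fam.can (PicF.XTmap p g))) κ'

lemma isInv_structureModule (Y : Scheme.{u}) : PicF.IsInvertible (Coh.structureModule Y) := by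
  rw [isInvertible_iff]
  exact fun y ↦ ⟨⊤, one ⊤, trivial, isGen_one ⊤⟩

/-- The universal trivialization is the universal isomorphism with the structure sheaf. -/
lemma exists_isTriv {Z S : Scheme.{u}} {p : Z ⟶ S} {T : Over S} {L : (PicF.XT p T).Modules}
    {I : Over S} {a : I ⟶ T} {N : (PicF.XT p I).Modules}
    {κ₁ : Fam (PicF.XTmap p a) L N}
    {κ₂ : Fam (PicF.XTmap p a) (Coh.structureModule (PicF.XT p T)) N}
    (h : IsIsom p L (Coh.structureModule (PicF.XT p T)) a κ₁ κ₂) :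
    ∃ κ, IsTriv p L a κ := by
  obtain ⟨e, he⟩ := exists_fill_sim (G' := 𝟙 _) (isInv_structureModule (PicF.XT p T)) κ₂
    (Fam.can (PicF.XTmap p a)) (Category.id_comp _)
  refine ⟨(κ₁.comp e).cast (Category.id_comp _), ?_⟩
  intro T' h' κ'
  obtain ⟨g, ⟨hg, ν, h1, h2⟩, hu⟩ := h T' h' (Coh.structureModule _) κ' (Fam.can _)
    (isInv_structureModule _)
  have key : ∀ g' : T' ⟶ I, g' ≫ a = h' →
      Sim (κ₂.comp (e.comp (Fam.can (PicF.XTmap p g')))) (Fam.can (PicF.XTmap p h')) := by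
    intro g' hg'
    exact (sim_assoc κ₂ e (Fam.can (PicF.XTmap p g'))).symm.trans
      ((he.comp_left (Fam.can (PicF.XTmap p g'))).trans
      (can_comp_can _ _ (by rw [← XTmap_comp, hg'])))
  refine ⟨g, ⟨hg, ?_⟩, ?_⟩
  · have h3 : Sim ν (e.comp (Fam.can (PicF.XTmap p g))) :=
      Sim.cancel (isInv_structureModule _) κ₂ (Category.comp_id _).symm (h2.trans (key g hg).symm)
    refine ((Sim.cast_left (F := κ₁.comp e) (Category.id_comp _)).comp_left
      (Fam.can (PicF.XTmap p g))).trans ?_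
    exact (sim_assoc κ₁ e (Fam.can (PicF.XTmap p g))).trans ((h3.symm.comp_right κ₁).trans h1)
  · rintro g' ⟨hg', h3⟩
    refine hu g' ⟨hg', (e.comp (Fam.can (PicF.XTmap p g'))).cast (Category.comp_id _), ?_, ?_⟩
    · refine ((Sim.cast_left (F := e.comp (Fam.can (PicF.XTmap p g')))
        (Category.comp_id _)).comp_right κ₁).trans ?_
      refine (sim_assoc κ₁ e (Fam.can (PicF.XTmap p g'))).symm.trans ?_
      exact ((Sim.cast_right (F := κ₁.comp e) (Category.id_comp _)).comp_left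
        (Fam.can (PicF.XTmap p g'))).trans h3
    · exact ((Sim.cast_left (F := e.comp (Fam.can (PicF.XTmap p g')))
        (Category.comp_id _)).comp_right κ₂).trans (key g' hg')

lemma IsTriv.hom_ext {Z S : Scheme.{u}} {p : Z ⟶ S} {T : Over S} {L : (PicF.XT p T).Modules}
    {I : Over S} {a : I ⟶ T} {κ : Fam (PicF.XTmap p a) L (Coh.structureModule (PicF.XT p I))}
    (h : IsTriv p L a κ) {T' : Over S} {g g' : T' ⟶ I} (hg : g ≫ a = g' ≫ a)
    (e : Sim (κ.comp (Fam.can (PicF.XTmap p g))) (κ.comp (Fam.can (PicF.XTmap p g')))) :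
    g = g' := by
  obtain ⟨g₀, -, hu⟩ := h T' (g' ≫ a)
    ((κ.comp (Fam.can (PicF.XTmap p g'))).cast (XTmap_comp p g' a).symm)
  rw [hu g ⟨hg, e.trans (Sim.cast_right _)⟩, hu g' ⟨rfl, Sim.cast_right _⟩]

/-- The locus where two sections of a separated morphism agree. -/
lemma exists_closed_eq {S : Scheme.{u}} {I J : Over S} (a : J ⟶ I) [IsSeparated a.left]
    (s₁ s₂ : I ⟶ J) (h₁ : s₁ ≫ a = 𝟙 I) (h₂ : s₂ ≫ a = 𝟙 I) :
    ∃ (P : Over S) (i : P ⟶ I), IsClosedImmersion i.left ∧ i ≫ s₁ = i ≫ s₂ ∧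
      ∀ (T' : Over S) (g : T' ⟶ I), g ≫ s₁ = g ≫ s₂ → ∃ g' : T' ⟶ P, g' ≫ i = g := by
  let X' : Over I.left := Over.mk (𝟙 I.left)
  let Y' : Over I.left := Over.mk a.left
  have : IsSeparated Y'.hom := ‹_›
  let t₁ : X' ⟶ Y' := Over.homMk s₁.left (congrArg CommaMorphism.left h₁)
  let t₂ : X' ⟶ Y' := Over.homMk s₂.left (congrArg CommaMorphism.left h₂)
  let i' : (equalizer t₁ t₂).left ⟶ I.left := (equalizer.ι t₁ t₂).left
  have hi' : i' ≫ s₁.left = i' ≫ s₂.left := congrArg CommaMorphism.left (equalizer.condition t₁ t₂)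
  have hc : IsClosedImmersion i' := isClosedImmersion_equalizer_ι_left t₁ t₂
  refine ⟨Over.mk (i' ≫ I.hom), Over.homMk i' rfl, hc, ?_, ?_⟩
  · ext
    exact hi'
  · intro T' g hg
    have hg' : g.left ≫ s₁.left = g.left ≫ s₂.left := congrArg CommaMorphism.left hg
    let g₁ : Over.mk g.left ⟶ X' := Over.homMk g.left (Category.comp_id _)
    let l : Over.mk g.left ⟶ equalizer t₁ t₂ := equalizer.lift g₁ (by
      ext
      exact hg')
    have hl : l.left ≫ i' = g.left := congrArg CommaMorphism.left (equalizer.lift_ι g₁ _)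
    refine ⟨Over.homMk l.left ?_, ?_⟩
    · change l.left ≫ i' ≫ I.hom = T'.hom
      rw [← Category.assoc, hl, Over.w g]
    · ext
      exact hl

/-- Composition with functions. -/
lemma comp_can_can {Y T T' T'' : Scheme.{u}} {σ : T ⟶ Y} {L : Y.Modules}
    (ρ : Fam σ L (Coh.structureModule T)) {g : T' ⟶ T} {g' : T'' ⟶ T'} {h : T'' ⟶ T}
    (hh : g' ≫ g = h) : Sim ((ρ.comp (Fam.can g)).comp (Fam.can g')) (ρ.comp (Fam.can h)) :=
  (sim_assoc ρ (Fam.can g) (Fam.can g')).trans ((can_comp_can g g' hh).comp_right ρ)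

section changeW

variable {X S W V : Scheme.{u}} (f : X ⟶ S) (w : W ⟶ X) (v : V ⟶ W)

/-- `V_T ⟶ W_T`. -/
noncomputable def vT (T : Over S) : PicF.XT ((v ≫ w) ≫ f) T ⟶ PicF.XT (w ≫ f) T :=
  pullback.map ((v ≫ w) ≫ f) T.hom (w ≫ f) T.hom v (𝟙 _) (𝟙 _) (by simp) (by simp)

@[reassoc (attr := simp)]
lemma vT_fst (T : Over S) : vT f w v T ≫ pullback.fst (w ≫ f) T.hom = pullback.fst _ _ ≫ v := by
  simp [vT]

@[reassoc (attr := simp)]
lemma vT_snd (T : Over S) : vT f w v T ≫ pullback.snd (w ≫ f) T.hom = pullback.snd _ _ := by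
  simp [vT]

@[reassoc]
lemma vT_wT (T : Over S) : vT f w v T ≫ wT f w T = wT f (v ≫ w) T := by
  apply pullback.hom_ext <;> simp

@[reassoc]
lemma vT_XTmap {T T' : Over S} (g : T' ⟶ T) :
    vT f w v T' ≫ PicF.XTmap (w ≫ f) g = PicF.XTmap ((v ≫ w) ≫ f) g ≫ vT f w v T := by
  apply pullback.hom_ext
  · simp only [Category.assoc, XTmap_fst, vT_fst]
    rw [XTmap_fst_assoc]
  · simp only [Category.assoc, XTmap_snd, vT_snd, vT_snd_assoc]

variable {f w}

/-- Restriction of the rigidification to `V`. -/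
noncomputable def resRB {T : Over S} (R : RB (wT f w T)) : RB (wT f (v ≫ w) T) :=
  ⟨R.L, R.inv, (R.ρ.comp (Fam.can (vT f w v T))).cast (vT_wT f w v T)⟩

lemma resRB_ρ {T : Over S} (R : RB (wT f w T)) :
    Sim (resRB v R).ρ (R.ρ.comp (Fam.can (vT f w v T))) := Sim.cast_left (vT_wT f w v T)

/-- Restriction of arrows. -/
noncomputable def ArrT.res {T T' : Over S} {g : T' ⟶ T} {R : RB (wT f w T)} {R' : RB (wT f w T')}
    (A : ArrT g R R') : ArrT g (resRB v R) (resRB v R') where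
  θ := A.θ
  isArr := by
    rw [isArr_iff_sim]
    refine ((resRB_ρ v R').comp_right A.θ).trans ?_
    refine (sim_assoc A.θ R'.ρ (Fam.can (vT f w v T'))).symm.trans ?_
    refine (A.simρ.comp_left (Fam.can (vT f w v T'))).trans ?_
    refine (comp_can_can R.ρ (vT_XTmap f w v g)).trans ?_
    refine (comp_can_can R.ρ rfl).symm.trans ?_
    exact (resRB_ρ v R).symm.comp_left (Fam.can (PicF.XTmap ((v ≫ w) ≫ f) g))

lemma ArrT.res_θ {T T' : Over S} {g : T' ⟶ T} {R : RB (wT f w T)} {R' : RB (wT f w T')}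
    (A : ArrT g R R') : (A.res v).θ = A.θ := rfl

/-- **Change of the rigidificator.** -/
theorem exists_changeW (hI : Inj f (v ≫ w)) {P' : Over S} (R' : RB (wT f (v ≫ w) P'))
    (hP' : ∀ (T : Over S) (x : (rigF f (v ≫ w)).obj (op T)),
      ∃! g : T ⟶ P', (rigF f (v ≫ w)).map g.op R'.cls = x)
    (hW : ∀ L : (PicF.XT (w ≫ f) P').Modules, PicF.IsInvertible L → ∃ (I : Over S) (a : I ⟶ P')
      (κ : Fam (PicF.XTmap (w ≫ f) a) L (Coh.structureModule (PicF.XT (w ≫ f) I))),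
      IsTriv (w ≫ f) L a κ ∧ IsAffineHom a.left ∧ LocallyOfFiniteType a.left)
    (hV : ∀ (I : Over S) (a : I ⟶ P'), IsAffineHom a.left → LocallyOfFiniteType a.left →
      ∀ L : (PicF.XT ((v ≫ w) ≫ f) I).Modules, PicF.IsInvertible L → ∃ (J : Over S) (b : J ⟶ I)
      (κ : Fam (PicF.XTmap ((v ≫ w) ≫ f) b) L (Coh.structureModule (PicF.XT ((v ≫ w) ≫ f) J))),
      IsTriv ((v ≫ w) ≫ f) L b κ ∧ IsSeparated b.left) :
    ∃ (P : Over S) (a : P ⟶ P') (R : RB (wT f w P)),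
      (∀ (T : Over S) (x : (rigF f w).obj (op T)), ∃! g : T ⟶ P, (rigF f w).map g.op R.cls = x) ∧
      Nonempty (ArrT a R' (resRB v R)) ∧ IsAffineHom a.left ∧ LocallyOfFiniteType a.left := by
  -- the universal trivialization along `W`
  let lam := can (wT f w P') R'.L
  obtain ⟨I, a, κ, hκ, haff, hlft⟩ := hW (PB (wT f w P') R'.L) (lam.isInvertible R'.inv)
  obtain ⟨Q, ⟨θI⟩⟩ : ∃ (M : (PicF.XT f I).Modules), Nonempty (Fam (PicF.XTmap f a) R'.L M) :=
    ⟨_, ⟨can (PicF.XTmap f a) R'.L⟩⟩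
  obtain ⟨ρI, hρI⟩ := exists_fill_sim R'.inv θI (lam.comp κ) (wT_XTmap f w a)
  let RI : RB (wT f w I) := ⟨Q, θI.isInvertible R'.inv, ρI⟩
  -- the two rigidifications along `V`
  obtain ⟨φ₂, hφ₂⟩ := exists_fill_sim R'.inv θI
    (R'.ρ.comp (Fam.can (PicF.XTmap ((v ≫ w) ≫ f) a))) (wT_XTmap f (v ≫ w) a)
  let φ₁ := (resRB v RI).ρ
  let μ := can (wT f (v ≫ w) I) Q
  have hμ : PicF.IsInvertible (PB (wT f (v ≫ w) I) Q) := μ.isInvertible RI.inv
  obtain ⟨J, b, κV, hκV, hsep⟩ := hV I a haff hlft (PB (wT f (v ≫ w) I) Q) hμ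
  have hid : PicF.XTmap ((v ≫ w) ≫ f) (𝟙 I) ≫ wT f (v ≫ w) I = wT f (v ≫ w) I := by
    rw [XTmap_id, Category.id_comp]
  obtain ⟨ψ₁, hψ₁⟩ := exists_fill_sim RI.inv μ φ₁ hid
  obtain ⟨ψ₂, hψ₂⟩ := exists_fill_sim RI.inv μ φ₂ hid
  obtain ⟨s₁, ⟨hs₁, hs₁'⟩, -⟩ := hκV I (𝟙 I) ψ₁
  obtain ⟨s₂, ⟨hs₂, hs₂'⟩, -⟩ := hκV I (𝟙 I) ψ₂
  obtain ⟨P, i, hi, hi1, hi2⟩ := exists_closed_eq b s₁ s₂ hs₁ hs₂
  have hmono : Mono i.left := inferInstance
  -- the meaning of the equality of the two sections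
  have key : ∀ (T : Over S) (g : T ⟶ I), g ≫ s₁ = g ≫ s₂ ↔
      Sim (φ₁.comp (Fam.can (PicF.XTmap ((v ≫ w) ≫ f) g)))
        (φ₂.comp (Fam.can (PicF.XTmap ((v ≫ w) ≫ f) g))) := by
    intro T g
    have h1 : ∀ (s : I ⟶ J) (φ : Fam (wT f (v ≫ w) I) Q (Coh.structureModule _))
        (ψ : Fam (PicF.XTmap ((v ≫ w) ≫ f) (𝟙 I)) _ (Coh.structureModule _)),
        Sim (μ.comp ψ) φ → Sim (κV.comp (Fam.can (PicF.XTmap ((v ≫ w) ≫ f) s))) ψ →
        Sim (μ.comp (κV.comp (Fam.can (PicF.XTmap ((v ≫ w) ≫ f) (g ≫ s)))))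
          (φ.comp (Fam.can (PicF.XTmap ((v ≫ w) ≫ f) g))) := by
      intro s φ ψ e1 e2
      refine ((comp_can_can κV (XTmap_comp _ g s).symm).symm.comp_right μ).trans ?_
      refine ((e2.comp_left (Fam.can (PicF.XTmap ((v ≫ w) ≫ f) g))).comp_right μ).trans ?_
      exact (sim_assoc μ ψ (Fam.can (PicF.XTmap ((v ≫ w) ≫ f) g))).symm.trans
        (e1.comp_left (Fam.can (PicF.XTmap ((v ≫ w) ≫ f) g)))
    constructor
    · intro h
      refine (h1 s₁ φ₁ ψ₁ hψ₁ hs₁').symm.trans ?_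
      rw [h]
      exact h1 s₂ φ₂ ψ₂ hψ₂ hs₂'
    · intro h
      have e : (g ≫ s₁) ≫ b = (g ≫ s₂) ≫ b := by
        rw [Category.assoc, Category.assoc, hs₁, hs₂]
      refine hκV.hom_ext e ?_
      refine Sim.cancel RI.inv μ ?_ ((h1 s₁ φ₁ ψ₁ hψ₁ hs₁').trans (h.trans
        (h1 s₂ φ₂ ψ₂ hψ₂ hs₂').symm))
      rw [← XTmap_comp, ← XTmap_comp, e]
  obtain ⟨RP, ⟨Ai⟩⟩ := exists_arrT i RI
  -- the arrow `R' → RP`
  have arr : ∀ {T : Over S} (g : T ⟶ I) (R : RB (wT f w T)) (A : ArrT g RI R),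
      Sim (φ₁.comp (Fam.can (PicF.XTmap ((v ≫ w) ≫ f) g)))
        (φ₂.comp (Fam.can (PicF.XTmap ((v ≫ w) ≫ f) g))) →
      Sim ((θI.comp A.θ).comp (resRB v R).ρ)
        (R'.ρ.comp (Fam.can (PicF.XTmap ((v ≫ w) ≫ f) (g ≫ a)))) := by
    intro T g R A h
    refine (sim_assoc θI A.θ (resRB v R).ρ).trans ?_
    refine ((A.res v).simρ.comp_right θI).trans ?_
    refine (h.comp_right θI).trans ?_
    refine (sim_assoc θI φ₂ (Fam.can (PicF.XTmap ((v ≫ w) ≫ f) g))).symm.trans ?_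
    refine (hφ₂.comp_left (Fam.can (PicF.XTmap ((v ≫ w) ≫ f) g))).trans ?_
    exact comp_can_can R'.ρ (XTmap_comp _ g a).symm
  refine ⟨P, i ≫ a, RP, ?_, ?_, ?_, ?_⟩
  · intro T x
    obtain ⟨R, rfl⟩ := exists_rep x
    obtain ⟨h, hh, hu⟩ := hP' T (resRB v R).cls
    obtain ⟨B⟩ := map_cls_iff.1 hh
    obtain ⟨κ', hκ'⟩ := exists_fill_sim R'.inv lam (B.θ.comp R.ρ) (wT_XTmap f w h).symm
    obtain ⟨g₁, ⟨hg₁, hg₁'⟩, hg₁u⟩ := hκ T h κ'
    obtain ⟨ν, hν⟩ := exists_fill_sim (G' := PicF.XTmap f g₁) R'.inv θI B.θ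
      (by rw [← XTmap_comp, hg₁])
    -- `ν` is an arrow
    have hνa : Sim (ν.comp R.ρ) (ρI.comp (Fam.can (PicF.XTmap (w ≫ f) g₁))) := by
      refine Sim.cancel R'.inv θI (wT_XTmap f w g₁) ?_
      refine (sim_assoc θI ν R.ρ).symm.trans ((hν.comp_left R.ρ).trans ?_)
      refine hκ'.symm.trans ((hg₁'.symm.comp_right lam).trans ?_)
      refine (sim_assoc lam κ (Fam.can (PicF.XTmap (w ≫ f) g₁))).symm.trans ?_
      refine (hρI.symm.comp_left (Fam.can (PicF.XTmap (w ≫ f) g₁))).trans ?_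
      exact sim_assoc θI ρI (Fam.can (PicF.XTmap (w ≫ f) g₁))
    let A₁ : ArrT g₁ RI R := ⟨ν, (isArr_iff_sim (wT_XTmap f w g₁)).2 hνa⟩
    have hfac : Sim (φ₁.comp (Fam.can (PicF.XTmap ((v ≫ w) ≫ f) g₁)))
        (φ₂.comp (Fam.can (PicF.XTmap ((v ≫ w) ≫ f) g₁))) := by
      refine Sim.cancel R'.inv θI rfl ?_
      refine ((A₁.res v).simρ.symm.comp_right θI).trans ?_
      refine (sim_assoc θI ν (resRB v R).ρ).symm.trans ((hν.comp_left (resRB v R).ρ).trans ?_)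
      refine B.simρ.trans ?_
      refine Sim.trans ?_ (sim_assoc θI φ₂ (Fam.can (PicF.XTmap ((v ≫ w) ≫ f) g₁)))
      refine Sim.trans ?_ (hφ₂.symm.comp_left (Fam.can (PicF.XTmap ((v ≫ w) ≫ f) g₁)))
      exact (comp_can_can R'.ρ (by rw [← XTmap_comp, hg₁])).symm
    obtain ⟨g₂, hg₂⟩ := hi2 T g₁ ((key T g₁).2 hfac)
    refine ⟨g₂, map_cls_iff.2 (nonempty_arrT_of_comp Ai A₁ hg₂), ?_⟩
    intro g₃ hg₃
    obtain ⟨C⟩ := map_cls_iff.1 hg₃
    let C' : ArrT (g₃ ≫ i) RI R := ArrT.comp Ai C rfl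
    have hC' : Sim ((θI.comp C'.θ).comp (resRB v R).ρ)
        (R'.ρ.comp (Fam.can (PicF.XTmap ((v ≫ w) ≫ f) ((g₃ ≫ i) ≫ a)))) := by
      refine arr (g₃ ≫ i) R C' ((key T (g₃ ≫ i)).1 ?_)
      rw [Category.assoc, hi1, Category.assoc]
    let D : ArrT ((g₃ ≫ i) ≫ a) R' (resRB v R) :=
      ⟨(θI.comp C'.θ).cast (XTmap_comp f (g₃ ≫ i) a).symm, (isArr_iff_sim _).2
        (((Sim.cast_left (F := θI.comp C'.θ) (XTmap_comp f (g₃ ≫ i) a).symm).comp_left
          (resRB v R).ρ).trans hC')⟩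
    have h1 : (g₃ ≫ i) ≫ a = h := hu _ D.map_cls
    have h2 : Sim (θI.comp C'.θ) B.θ :=
      (Sim.cast_right (F := θI.comp C'.θ) (XTmap_comp f (g₃ ≫ i) a).symm).trans
        (ArrT.sim hI D B h1)
    have h3 : g₃ ≫ i = g₁ := by
      refine hg₁u _ ⟨h1, ?_⟩
      refine Sim.cancel R'.inv lam (by rw [← XTmap_comp, h1]) ?_
      refine Sim.trans ?_ hκ'.symm
      refine (sim_assoc lam κ (Fam.can (PicF.XTmap (w ≫ f) (g₃ ≫ i)))).symm.trans ?_
      refine (hρI.symm.comp_left (Fam.can (PicF.XTmap (w ≫ f) (g₃ ≫ i)))).trans ?_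
      refine (sim_assoc θI ρI (Fam.can (PicF.XTmap (w ≫ f) (g₃ ≫ i)))).trans ?_
      refine (C'.simρ.symm.comp_right θI).trans ?_
      exact (sim_assoc θI C'.θ R.ρ).symm.trans (h2.comp_left R.ρ)
    have h4 : g₃ ≫ i = g₂ ≫ i := h3.trans hg₂.symm
    ext
    rw [← cancel_mono i.left]
    exact congrArg CommaMorphism.left h4
  · refine ⟨⟨(θI.comp Ai.θ).cast (XTmap_comp f i a).symm, (isArr_iff_sim _).2 ?_⟩⟩
    exact ((Sim.cast_left (F := θI.comp Ai.θ) (XTmap_comp f i a).symm).comp_left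
      (resRB v RP).ρ).trans (arr i RP Ai ((key P i).1 hi1))
  · change IsAffineHom (i.left ≫ a.left)
    infer_instance
  · change LocallyOfFiniteType (i.left ≫ a.left)
    infer_instance

end changeW

end Groth.Agent.Pic13.H602.Rig
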