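import Groth.Agent.Pic13.H602.InvDesc
import Groth.Agent.Pic13.H602.Sim
import Groth.Agent.Desc.QDBridge
import Groth.Agent.Sga3C.QCDesc
import Groth.Agent.Desc.QCClass

/-!
# fpqc descent of invertible modules in the language of families

* `Glue p L` : gluing data for `L i` on `Y' i`, `p i : Y' i ⟶ Y`;
* `Glue.exists_desc`: for an fpqc covering family the gluing data are effective.
-/

set_option autoImplicit false
set_option backward.isDefEq.respectTransparency false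

universe v u

open CategoryTheory CategoryTheory.Limits AlgebraicGeometry TopologicalSpace Opposite

namespace Groth.Agent.Pic13.H602.FamDesc

open Groth.Agent.Fdesc Groth.Agent.Fdesc.LocGen Groth.Agent.Picfga.LineHom
  Groth.Agent.Picfga.LineDescent Groth.Agent.Picfga.LineFam Groth.Agent.Desc.QD
  Groth.Agent.Pic13.H602.Rig

variable {Y : Scheme.{u}} {ι : Type v} {Y' : ι → Scheme.{u}}

/-- The canonical family `L → a^* L`. -/
noncomputable def can {Y Z : Scheme.{u}} (a : Z ⟶ Y) (L : Y.Modules) : Fam a L (PB a L) :=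
  Fam.ofIso (Iso.refl _)

lemma can_map {Y Z : Scheme.{u}} (a : Z ⟶ Y) (L : Y.Modules) {U : Y.Opens} (s : Γ(L, U)) :
    (can a L).map s = pullSec a s := rfl

lemma can_map_sc {Y Z : Scheme.{u}} (a : Z ⟶ Y) (L : Y.Modules) {U : Y.Opens} (s : Γ(L, U)) :
    (can a L).map s = sc a L le_rfl s := by
  rw [can_map, sc_eq, rs_refl]

/-- The family attached to an isomorphism of modules. -/
noncomputable def idFam {Z : Scheme.{u}} {M M' : Z.Modules} (e : M ≅ M') : Fam (𝟙 Z) M M' where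
  map s := e.hom.app _ s
  smul a s := Scheme.Modules.Hom.app_smul e.hom a s
  res h s := app_res e.hom h s
  gen he := he.app e.hom

lemma idFam_map {Z : Scheme.{u}} {M M' : Z.Modules} (e : M ≅ M') {U : Z.Opens} (s : Γ(M, U)) :
    (idFam e).map s = e.hom.app _ s := rfl

/-- A family is the same as an isomorphism out of the pullback. -/
lemma exists_iso {Y Z : Scheme.{u}} {a : Z ⟶ Y} {L : Y.Modules} (hL : PicF.IsInvertible L)
    {M : Z.Modules} (α : Fam a L M) : ∃ φ : PB a L ≅ M, ∀ {U : Y.Opens} (s : Γ(L, U)),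
      α.map s = φ.hom.app _ (pullSec a s) := by
  obtain ⟨ψ, rfl⟩ := Fam.exists_ofIso hL α
  exact ⟨ψ, fun s ↦ rfl⟩

/-- Gluing data for modules on the members of a family of morphisms. -/
structure Glue (p : ∀ i, Y' i ⟶ Y) (L : ∀ i, (Y' i).Modules) where
  /-- the relation: `α` and `β` correspond under the gluing isomorphism -/
  rel : ∀ {i j : ι} {Z : Scheme.{u}} (a : Z ⟶ Y' i) (b : Z ⟶ Y' j) (_ : a ≫ p i = b ≫ p j)
    {M : Z.Modules} (_ : Fam a (L i) M) (_ : Fam b (L j) M), Prop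
  ex : ∀ {i j : ι} {Z : Scheme.{u}} (a : Z ⟶ Y' i) (b : Z ⟶ Y' j) (w : a ≫ p i = b ≫ p j)
    {M : Z.Modules} (α : Fam a (L i) M), ∃ β : Fam b (L j) M, rel a b w α β
  uniq : ∀ {i j : ι} {Z : Scheme.{u}} {a : Z ⟶ Y' i} {b : Z ⟶ Y' j} {w : a ≫ p i = b ≫ p j}
    {M : Z.Modules} {α : Fam a (L i) M} {β β' : Fam b (L j) M}, rel a b w α β →
    rel a b w α β' → β = β'
  refl : ∀ {i : ι} {Z : Scheme.{u}} (a : Z ⟶ Y' i) {M : Z.Modules} (α : Fam a (L i) M),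
    rel a a rfl α α
  trans : ∀ {i j k : ι} {Z : Scheme.{u}} {a : Z ⟶ Y' i} {b : Z ⟶ Y' j} {c : Z ⟶ Y' k}
    (w : a ≫ p i = b ≫ p j) (w' : b ≫ p j = c ≫ p k)
    {M : Z.Modules} {α : Fam a (L i) M} {β : Fam b (L j) M} {γ : Fam c (L k) M},
    rel a b w α β → rel b c w' β γ → rel a c (w.trans w') α γ
  comp : ∀ {i j : ι} {Z Z' : Scheme.{u}} {a : Z ⟶ Y' i} {b : Z ⟶ Y' j} (w : a ≫ p i = b ≫ p j)
    {M : Z.Modules} {α : Fam a (L i) M} {β : Fam b (L j) M}, rel a b w α β →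
    ∀ {g : Z' ⟶ Z} {M' : Z'.Modules} (κ : Fam g M M') {a' : Z' ⟶ Y' i} {b' : Z' ⟶ Y' j}
      (ha : g ≫ a = a') (hb : g ≫ b = b') (w' : a' ≫ p i = b' ≫ p j),
      rel a' b' w' ((α.comp κ).cast ha) ((β.comp κ).cast hb)

namespace Glue

variable {p : ∀ i, Y' i ⟶ Y} {L : ∀ i, (Y' i).Modules} (G : Glue p L)

lemma symm {i j : ι} {Z : Scheme.{u}} {a : Z ⟶ Y' i} {b : Z ⟶ Y' j} {w : a ≫ p i = b ≫ p j}
    {M : Z.Modules} {α : Fam a (L i) M} {β : Fam b (L j) M} (h : G.rel a b w α β) :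
    G.rel b a w.symm β α := by
  obtain ⟨α', h'⟩ := G.ex b a w.symm β
  have h1 := G.trans w w.symm h h'
  have h2 := G.uniq h1 (G.refl a α)
  rw [← h2]
  exact h'

lemma uniq' {i j : ι} {Z : Scheme.{u}} {a : Z ⟶ Y' i} {b : Z ⟶ Y' j} {w : a ≫ p i = b ≫ p j}
    {M : Z.Modules} {α α' : Fam a (L i) M} {β : Fam b (L j) M} (h : G.rel a b w α β)
    (h' : G.rel a b w α' β) : α = α' :=
  G.uniq (G.symm h) (G.symm h')

lemma ex' {i j : ι} {Z : Scheme.{u}} (a : Z ⟶ Y' i) (b : Z ⟶ Y' j) (w : a ≫ p i = b ≫ p j)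
    {M : Z.Modules} (β : Fam b (L j) M) : ∃ α : Fam a (L i) M, G.rel a b w α β := by
  obtain ⟨α, h⟩ := G.ex b a w.symm β
  exact ⟨α, G.symm h⟩

/-- `φ` is the gluing morphism. -/
def IsHom {i j : ι} {Z : Scheme.{u}} (a : Z ⟶ Y' i) (b : Z ⟶ Y' j) (w : a ≫ p i = b ≫ p j)
    (φ : PB a (L i) ⟶ PB b (L j)) : Prop :=
  ∃ α : Fam a (L i) (PB b (L j)), (∀ {U : (Y' i).Opens} (s : Γ(L i, U)),
    α.map s = φ.app _ (pullSec a s)) ∧ G.rel a b w α (can b (L j))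

lemma IsHom.unique {i j : ι} {Z : Scheme.{u}} {a : Z ⟶ Y' i} {b : Z ⟶ Y' j}
    {w : a ≫ p i = b ≫ p j} {φ φ' : PB a (L i) ⟶ PB b (L j)} (h : G.IsHom a b w φ)
    (h' : G.IsHom a b w φ') : φ = φ' := by
  obtain ⟨α, h1, h2⟩ := h
  obtain ⟨α', h1', h2'⟩ := h'
  obtain rfl := G.uniq' h2 h2'
  apply hom_ext a
  intro U m
  rw [sc_eq, rs_refl]
  exact (h1 m).symm.trans (h1' m)

lemma exists_isHom (hL : ∀ i, PicF.IsInvertible (L i)) {i j : ι} {Z : Scheme.{u}} (a : Z ⟶ Y' i)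
    (b : Z ⟶ Y' j) (w : a ≫ p i = b ≫ p j) :
    ∃ φ : PB a (L i) ≅ PB b (L j), G.IsHom a b w φ.hom := by
  obtain ⟨α, hα⟩ := G.ex' a b w (can b (L j))
  obtain ⟨φ, hφ⟩ := exists_iso (hL i) α
  exact ⟨φ, α, hφ, hα⟩

variable (hL : ∀ i, PicF.IsInvertible (L i))

/-- The gluing isomorphism. -/
noncomputable def iso {i j : ι} {Z : Scheme.{u}} (a : Z ⟶ Y' i)
    (b : Z ⟶ Y' j) (w : a ≫ p i = b ≫ p j) : PB a (L i) ≅ PB b (L j) :=
  (G.exists_isHom hL a b w).choose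

lemma isHom_iso {i j : ι} {Z : Scheme.{u}} (a : Z ⟶ Y' i)
    (b : Z ⟶ Y' j) (w : a ≫ p i = b ≫ p j) : G.IsHom a b w (G.iso hL a b w).hom :=
  (G.exists_isHom hL a b w).choose_spec

lemma IsHom.pullH {i j : ι} {Z Z' : Scheme.{u}} {a : Z ⟶ Y' i} {b : Z ⟶ Y' j}
    {w : a ≫ p i = b ≫ p j} {φ : PB a (L i) ⟶ PB b (L j)} (h : G.IsHom a b w φ) (g : Z' ⟶ Z)
    {a' : Z' ⟶ Y' i} {b' : Z' ⟶ Y' j} (ha : g ≫ a = a') (hb : g ≫ b = b')
    (w' : a' ≫ p i = b' ≫ p j) : G.IsHom a' b' w' (pullH φ g a' b' ha hb) := by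
  obtain ⟨α, h1, h2⟩ := h
  subst ha hb
  let κ : Fam g (PB b (L j)) (PB (g ≫ b) (L j)) := Fam.ofIso (cmpIso g b (g ≫ b) rfl (L j)).symm
  have hκ : ∀ {V : Z.Opens} (s : Γ(PB b (L j), V)), κ.map s = tr g b (g ≫ b) rfl (L j) le_rfl s := by
    intro V s
    rw [tr_apply, sc_eq, rs_refl]
    rfl
  refine ⟨(α.comp κ).cast rfl, ?_, ?_⟩
  rotate_left
  · have h3 := G.comp w h2 κ rfl rfl w'
    have h4 : ((can b (L j)).comp κ).cast rfl = can (g ≫ b) (L j) := by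
      refine Fam.ext' fun U s ↦ ?_
      rw [Fam.cast_rfl, Fam.comp_map, hκ, can_map_sc, can_map_sc]
      exact tr_sc g b (g ≫ b) rfl (L j) le_rfl le_rfl le_rfl s
    rw [h4] at h3
    exact h3
  · intro U s
    rw [Fam.cast_rfl, Fam.comp_map, hκ, h1]
    have h5 := ap_pullH_tr φ g (g ≫ a) (g ≫ b) rfl rfl (V := a ⁻¹ᵁ U) (V' := g ⁻¹ᵁ (a ⁻¹ᵁ U)) le_rfl
      (sc a (L i) le_rfl s)
    have h6 := tr_sc g a (g ≫ a) rfl (L i) (V := a ⁻¹ᵁ U) (V' := g ⁻¹ᵁ (a ⁻¹ᵁ U)) le_rfl le_rfl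
      le_rfl s
    rw [h6] at h5
    have h7 : sc a (L i) (le_refl (a ⁻¹ᵁ U)) s = pullSec a s := by rw [sc_eq, rs_refl]
    have h8 : sc (g ≫ a) (L i) (le_refl ((g ≫ a) ⁻¹ᵁ U)) s = pullSec (g ≫ a) s := by
      rw [sc_eq, rs_refl]
    rw [h7] at h5
    have h9 := congrArg (fun z ↦ ap (Desc.QD.pullH φ g (g ≫ a) (g ≫ b) rfl rfl) _ z) h8
    exact (h9.symm.trans h5).symm

lemma isHom_id {i : ι} {Z : Scheme.{u}} (a : Z ⟶ Y' i) : G.IsHom a a rfl (𝟙 (PB a (L i))) :=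
  ⟨can a (L i), fun _ ↦ rfl, G.refl a _⟩

lemma IsHom.comp {i j k : ι} {Z : Scheme.{u}} {a : Z ⟶ Y' i} {b : Z ⟶ Y' j} {c : Z ⟶ Y' k}
    {w : a ≫ p i = b ≫ p j} {w' : b ≫ p j = c ≫ p k} {φ : PB a (L i) ⟶ PB b (L j)}
    {φ' : PB b (L j) ≅ PB c (L k)} (h : G.IsHom a b w φ) (h' : G.IsHom b c w' φ'.hom) :
    G.IsHom a c (w.trans w') (φ ≫ φ'.hom) := by
  obtain ⟨α, h1, h2⟩ := h
  obtain ⟨α', h1', h2'⟩ := h'
  have h3 := G.comp w h2 (idFam φ') (Category.id_comp a) (Category.id_comp b) w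
  have h4 : ((can b (L j)).comp (idFam φ')).cast (Category.id_comp b) = α' := by
    refine Fam.ext' fun U s ↦ ?_
    rw [Fam.cast_map, Fam.comp_map, idFam_map, can_map]
    exact (res_refl _ _).trans (h1' s).symm
  rw [h4] at h3
  refine ⟨_, ?_, G.trans w w' h3 h2'⟩
  intro U s
  rw [Fam.cast_map, Fam.comp_map, idFam_map, h1]
  exact res_refl _ _

/-- The descent datum attached to the gluing data. -/
noncomputable def datum : _root_.Desc.modPF.{u}.DescentData p where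
  obj i := L i
  hom Z q i j a b ha hb := (G.iso hL a b (ha.trans hb.symm)).hom
  pullHom_hom Z' Z g q q' hq i j a b ha hb a' b' ha' hb' := by
    have h1 := (G.isHom_iso hL a b (ha.trans hb.symm)).pullH G g ha' hb' (by
      rw [← ha', ← hb', Category.assoc, Category.assoc, ha, hb])
    have h2 := G.isHom_iso hL a' b' (by rw [← ha', ← hb', Category.assoc, Category.assoc, ha, hb])
    refine Eq.trans ?_ (IsHom.unique G h1 h2)
    rw [Pseudofunctor.LocallyDiscreteOpToCat.pullHom, Desc.QD.pullH]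
    rw [modPF_mapComp' a g a' ha' _ (L i), modPF_mapComp'_inv b g b' hb' _ (L j)]
    rfl
  hom_self Z q i a ha := IsHom.unique G (G.isHom_iso hL a a rfl) (G.isHom_id a)
  hom_comp Z q i j k a b c ha hb hc :=
    IsHom.unique G (IsHom.comp G (G.isHom_iso hL a b _) (G.isHom_iso hL b c (hb.trans hc.symm)))
      (G.isHom_iso hL a c (ha.trans hc.symm))

end Glue

/-- **Gluing data for invertible modules relative to an fpqc covering family are effective.** -/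
theorem Glue.exists_desc {ι : Type u} {Y' : ι → Scheme.{u}} {p : ∀ i, Y' i ⟶ Y}
    {L : ∀ i, (Y' i).Modules} (G : Glue p L) (hL : ∀ i, PicF.IsInvertible (L i))
    (hp : Presieve.ofArrows Y' p ∈ Scheme.fpqcPrecoverage Y) :
    ∃ (M : Y.Modules) (_ : PicF.IsInvertible M) (θ : ∀ i, Fam (p i) M (L i)),
      ∀ {i j : ι} {Z : Scheme.{u}} (a : Z ⟶ Y' i) (b : Z ⟶ Y' j) (w : a ≫ p i = b ≫ p j)
        {N : Z.Modules} (α : Fam a (L i) N) (β : Fam b (L j) N), G.rel a b w α β →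
        ((θ i).comp α).cast w = (θ j).comp β := by
  obtain ⟨M, hM, ⟨e⟩⟩ := Groth.Agent.Sga3C.QCDesc.effective Groth.Agent.Desc.QCClass.qcClass
    (fun _ _ => Iff.rfl) p hp (G.datum hL) (fun i ↦ Ega2.QCohLocal.isQCoh_of_isInvertible (hL i))
  let e' : ∀ i, PB (p i) M ≅ L i := fun i ↦
    { hom := e.hom.hom i
      inv := e.inv.hom i
      hom_inv_id := by
        have := congrArg (fun z ↦ Pseudofunctor.DescentData.Hom.hom z i) e.hom_inv_id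
        exact this
      inv_hom_id := by
        have := congrArg (fun z ↦ Pseudofunctor.DescentData.Hom.hom z i) e.inv_hom_id
        exact this }
  have hinv : PicF.IsInvertible M := InvDesc.isInvertible_of_fpqc p hp M hM fun i ↦
    Krr.H490.PBFun.isInvertible_of_iso (e' i).symm (hL i)
  refine ⟨M, hinv, fun i ↦ Fam.ofIso (e' i), ?_⟩
  intro i j Z a b w N α β hαβ
  -- the gluing isomorphism on pulled back sections
  have key : ∀ {U : Y.Opens} (m : Γ(M, U)),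
      ap (G.iso hL a b w).hom _ (sc a (L i) le_rfl ((Fam.ofIso (e' i)).map m)) =
        rs _ (le_of_eq (by
          change (a ≫ p i) ⁻¹ᵁ U = (b ≫ p j) ⁻¹ᵁ U
          rw [w])) (sc b (L j) le_rfl ((Fam.ofIso (e' j)).map m)) := by
    intro U m
    have h1 := e.hom.comm (a ≫ p i) a b rfl w.symm
    have h2 : PBmap a (e' i).hom ≫ (G.iso hL a b w).hom =
        (cmpInv a (p i) (a ≫ p i) rfl M ≫ cmp b (p j) (a ≫ p i) w.symm M) ≫ PBmap b (e' j).hom := by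
      refine Eq.trans h1 ?_
      refine congrArg (fun z => z ≫ _) ?_
      exact (congrArg₂ (fun z z' => z ≫ z') (modPF_mapComp'_inv (p i) a (a ≫ p i) rfl _ M)
          (modPF_mapComp' (p j) b (a ≫ p i) w.symm _ M))
    have h3 := congrArg (fun z ↦ ap z (a ⁻¹ᵁ (p i ⁻¹ᵁ U)) (sc a _ le_rfl (sc (p i) M le_rfl m))) h2
    simp only [ap_comp] at h3
    rw [map_sc] at h3
    have hle : a ⁻¹ᵁ (p i ⁻¹ᵁ U) ≤ b ⁻¹ᵁ (p j ⁻¹ᵁ U) := le_of_eq (by
          change (a ≫ p i) ⁻¹ᵁ U = (b ≫ p j) ⁻¹ᵁ U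
          rw [w])
    have h4 := cmpInv_sc a (p i) (a ≫ p i) rfl M (U := U) (V := p i ⁻¹ᵁ U)
      (T := a ⁻¹ᵁ (p i ⁻¹ᵁ U)) le_rfl le_rfl le_rfl m
    have h5 := cmp_sc b (p j) (a ≫ p i) w.symm M (U := U) (V := p j ⁻¹ᵁ U)
      (T := a ⁻¹ᵁ (p i ⁻¹ᵁ U)) le_rfl hle le_rfl m
    rw [h4, h5, map_sc] at h3
    have h6 : ∀ i, (Fam.ofIso (e' i)).map m = ap (e' i).hom _ (sc (p i) M le_rfl m) := by
      intro i
      rw [sc_eq, rs_refl]
      rfl
    rw [h6, h6]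
    refine h3.trans ?_
    rw [rs_sc]
  obtain ⟨κ, hκ⟩ := Rig.exists_fill (G := b) (G' := 𝟙 Z) (hL j) (can b (L j))
    (β.cast (Category.id_comp b).symm)
  obtain ⟨α₀, h1, h2⟩ := G.isHom_iso hL a b w
  have h3 := G.comp w h2 κ (Category.id_comp a) (Category.id_comp b) w
  have h4 : ((can b (L j)).comp κ).cast (Category.id_comp b) = β := by
    rw [hκ]
    exact Fam.ext' fun U s ↦ by rw [Fam.cast_map, Fam.cast_map, res_res]; exact res_refl _ _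
  rw [h4] at h3
  obtain rfl := G.uniq' hαβ h3
  rw [← h4]
  refine Fam.ext' fun U m ↦ ?_
  rw [Fam.cast_map, Fam.comp_map, Fam.cast_map, Fam.comp_map, Fam.comp_map, Fam.cast_map, Fam.comp_map]
  have key' : α₀.map ((Fam.ofIso (e' i)).map m) = LocGen.res _ (le_of_eq (by
          change (a ≫ p i) ⁻¹ᵁ U = (b ≫ p j) ⁻¹ᵁ U
          rw [w])) (pullSec b ((Fam.ofIso (e' j)).map m)) := by
    rw [h1]
    have h5 := key m
    rw [sc_eq, sc_eq, rs_refl, rs_refl] at h5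
    exact h5
  rw [key', κ.res]
  refine (congrArg _ (res_res N _ _ _)).trans ((res_res N _ _ _).trans ?_)
  rfl

/-- Gluing data on the fibre products. -/
structure Overlap (p : ∀ i, Y' i ⟶ Y) (L : ∀ i, (Y' i).Modules) where
  /-- the fibre products -/
  P : ι → ι → Scheme.{u}
  /-- first projection -/
  q₁ : ∀ i j, P i j ⟶ Y' i
  /-- second projection -/
  q₂ : ∀ i j, P i j ⟶ Y' j
  isPb : ∀ i j, IsPullback (q₁ i j) (q₂ i j) (p i) (p j)
  /-- the module on the fibre product -/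
  M : ∀ i j, (P i j).Modules
  /-- comparison with the first module -/
  θ₁ : ∀ i j, Fam (q₁ i j) (L i) (M i j)
  /-- comparison with the second module -/
  θ₂ : ∀ i j, Fam (q₂ i j) (L j) (M i j)
  coc : ∀ i j k, ∃ (P3 : Scheme.{u}) (r₁₂ : P3 ⟶ P i j) (r₂₃ : P3 ⟶ P j k) (r₁₃ : P3 ⟶ P i k)
    (M3 : P3.Modules) (κ₁₂ : Fam r₁₂ (M i j) M3) (κ₂₃ : Fam r₂₃ (M j k) M3)
    (κ₁₃ : Fam r₁₃ (M i k) M3),
    Sim ((θ₁ i j).comp κ₁₂) ((θ₁ i k).comp κ₁₃) ∧ Sim ((θ₂ i j).comp κ₁₂) ((θ₁ j k).comp κ₂₃) ∧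
    Sim ((θ₂ j k).comp κ₂₃) ((θ₂ i k).comp κ₁₃) ∧
    ∀ (Z : Scheme.{u}) (a : Z ⟶ Y' i) (b : Z ⟶ Y' j) (c : Z ⟶ Y' k), a ≫ p i = b ≫ p j →
      b ≫ p j = c ≫ p k → ∃ g : Z ⟶ P3, g ≫ r₁₂ ≫ q₁ i j = a ∧ g ≫ r₁₂ ≫ q₂ i j = b ∧
        g ≫ r₂₃ ≫ q₂ j k = c

namespace Overlap

variable {p : ∀ i, Y' i ⟶ Y} {L : ∀ i, (Y' i).Modules} (O : Overlap p L)

/-- The gluing relation. -/
def Rel {i j : ι} {Z : Scheme.{u}} {a : Z ⟶ Y' i} {b : Z ⟶ Y' j}
    {N : Z.Modules} (α : Fam a (L i) N) (β : Fam b (L j) N) : Prop :=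
  ∃ (g : Z ⟶ O.P i j) (κ : Fam g (O.M i j) N), Sim ((O.θ₁ i j).comp κ) α ∧
    Sim ((O.θ₂ i j).comp κ) β

variable (hL : ∀ i, PicF.IsInvertible (L i))

include hL

lemma rel_ex {i j : ι} {Z : Scheme.{u}} (a : Z ⟶ Y' i) (b : Z ⟶ Y' j) (w : a ≫ p i = b ≫ p j)
    {N : Z.Modules} (α : Fam a (L i) N) : ∃ β : Fam b (L j) N, O.Rel α β := by
  obtain ⟨κ, hκ⟩ := exists_fill_sim (hL i) (O.θ₁ i j) α ((O.isPb i j).lift_fst a b w)
  exact ⟨((O.θ₂ i j).comp κ).cast ((O.isPb i j).lift_snd a b w), _, κ, hκ, Sim.cast_right _⟩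

lemma rel_uniq {i j : ι} {Z : Scheme.{u}} {a : Z ⟶ Y' i} {b : Z ⟶ Y' j}
    {N : Z.Modules} {α : Fam a (L i) N} {β β' : Fam b (L j) N} (h : O.Rel α β) (h' : O.Rel α β') :
    β = β' := by
  obtain ⟨g, κ, h1, h2⟩ := h
  obtain ⟨g', κ', h1', h2'⟩ := h'
  have hg : g = g' := (O.isPb i j).hom_ext (h1.hom_eq.trans h1'.hom_eq.symm)
    (h2.hom_eq.trans h2'.hom_eq.symm)
  have h3 : Sim κ κ' := Sim.cancel (hL i) (O.θ₁ i j) hg (h1.trans h1'.symm)
  exact ((h2.symm.trans (h3.comp_right _)).trans h2').eq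

lemma rel_uniq' {i j : ι} {Z : Scheme.{u}} {a : Z ⟶ Y' i} {b : Z ⟶ Y' j}
    {N : Z.Modules} {α α' : Fam a (L i) N} {β : Fam b (L j) N} (h : O.Rel α β) (h' : O.Rel α' β) :
    α = α' := by
  obtain ⟨g, κ, h1, h2⟩ := h
  obtain ⟨g', κ', h1', h2'⟩ := h'
  have hg : g = g' := (O.isPb i j).hom_ext (h1.hom_eq.trans h1'.hom_eq.symm)
    (h2.hom_eq.trans h2'.hom_eq.symm)
  have h3 : Sim κ κ' := Sim.cancel (hL j) (O.θ₂ i j) hg (h2.trans h2'.symm)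
  exact ((h1.symm.trans (h3.comp_right _)).trans h1').eq

lemma rel_trans {i j k : ι} {Z : Scheme.{u}} {a : Z ⟶ Y' i} {b : Z ⟶ Y' j} {c : Z ⟶ Y' k}
    {N : Z.Modules} {α : Fam a (L i) N} {β : Fam b (L j) N} {γ : Fam c (L k) N}
    (h : O.Rel α β) (h' : O.Rel β γ) : O.Rel α γ := by
  obtain ⟨g, κ, h1, h2⟩ := h
  obtain ⟨g', κ', h1', h2'⟩ := h'
  obtain ⟨P3, r₁₂, r₂₃, r₁₃, M3, κ₁₂, κ₂₃, κ₁₃, e1, e2, e3, hu⟩ := O.coc i j k
  obtain ⟨t, ht1, ht2, ht3⟩ := hu Z a b c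
    (by rw [← h1.hom_eq, ← h2.hom_eq, Category.assoc, (O.isPb i j).w, Category.assoc])
    (by rw [← h1'.hom_eq, ← h2'.hom_eq, Category.assoc, (O.isPb j k).w, Category.assoc])
  have hg : t ≫ r₁₂ = g := (O.isPb i j).hom_ext
    (by rw [Category.assoc, ht1]; exact h1.hom_eq.symm)
    (by rw [Category.assoc, ht2]; exact h2.hom_eq.symm)
  have hg' : t ≫ r₂₃ = g' := (O.isPb j k).hom_ext
    (by rw [Category.assoc, ← e2.hom_eq, ht2]; exact h1'.hom_eq.symm)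
    (by rw [Category.assoc, ht3]; exact h2'.hom_eq.symm)
  have hM : ∀ i j, PicF.IsInvertible (O.M i j) := fun i j ↦ (O.θ₁ i j).isInvertible (hL i)
  obtain ⟨l, hl⟩ := exists_fill_sim (hM i j) κ₁₂ κ hg
  obtain ⟨l', hl'⟩ := exists_fill_sim (hM j k) κ₂₃ κ' hg'
  -- the two fillings agree
  have e : Sim l l' := by
    refine Sim.cancel' (hL j) e2 rfl ?_
    exact ((hl.comp_right (O.θ₂ i j)).trans h2).trans ((hl'.comp_right (O.θ₁ j k)).trans h1').symm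
  refine ⟨_, κ₁₃.comp l, ?_, ?_⟩
  · exact ((e1.comp_left l).symm.trans (hl.comp_right (O.θ₁ i j))).trans h1
  · exact ((e3.comp_left l).symm.trans (((e.comp_right κ₂₃).trans hl').comp_right
      (O.θ₂ j k))).trans h2'

lemma rel_refl {i : ι} {Z : Scheme.{u}} (a : Z ⟶ Y' i) {N : Z.Modules} (α : Fam a (L i) N) :
    O.Rel α α := by
  obtain ⟨β, h⟩ := O.rel_ex hL a a rfl α
  obtain ⟨γ, h'⟩ := O.rel_ex hL a a rfl β
  obtain rfl := O.rel_uniq hL (O.rel_trans hL h h') h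
  obtain rfl := O.rel_uniq' hL h h'
  exact h

/-- Gluing data from overlaps. -/
def glue : Glue p L where
  rel _ _ _ _ α β := O.Rel α β
  ex a b w _ α := O.rel_ex hL a b w α
  uniq h h' := O.rel_uniq hL h h'
  refl a _ α := O.rel_refl hL a α
  trans _ _ _ _ _ _ h h' := O.rel_trans hL h h'
  comp _ _ _ _ h _ _ κ _ _ ha hb _ := by
    obtain ⟨g, κ', h1, h2⟩ := h
    exact ⟨_, κ'.comp κ, (h1.comp_left κ).trans (Sim.cast_right _),
      (h2.comp_left κ).trans (Sim.cast_right _)⟩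

end Overlap

/-- **Effectivity of gluing data on overlaps, for fpqc covering families.** -/
theorem Overlap.exists_desc {ι : Type u} {Y' : ι → Scheme.{u}} {p : ∀ i, Y' i ⟶ Y}
    {L : ∀ i, (Y' i).Modules} (O : Overlap p L) (hL : ∀ i, PicF.IsInvertible (L i))
    (hp : Presieve.ofArrows Y' p ∈ Scheme.fpqcPrecoverage Y) :
    ∃ (M : Y.Modules) (_ : PicF.IsInvertible M) (θ : ∀ i, Fam (p i) M (L i)),
      ∀ i j, Sim ((θ i).comp (O.θ₁ i j)) ((θ j).comp (O.θ₂ i j)) := by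
  obtain ⟨M, hM, θ, h⟩ := (O.glue hL).exists_desc hL hp
  refine ⟨M, hM, θ, fun i j ↦ ?_⟩
  exact ⟨(O.isPb i j).w, h (O.q₁ i j) (O.q₂ i j) (O.isPb i j).w (O.θ₁ i j) (O.θ₂ i j)
    ⟨𝟙 _, Fam.id _, Sim.refl _, Sim.refl _⟩⟩

end Groth.Agent.Pic13.H602.FamDesc
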