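import Groth.Agent.Pic13.H602.FamDesc
import Groth.Agent.Fga.EtTriv

/-!
# fpqc descent of sections and families

* `exists_sec`: sections of invertible modules descend along fpqc covering families;
* `exists_fam`: families `σ^* L ≅ N` descend along fpqc covering families of the source of `σ`.
-/

set_option autoImplicit false
set_option backward.isDefEq.respectTransparency false

universe v u

open CategoryTheory CategoryTheory.Limits AlgebraicGeometry TopologicalSpace Opposite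

namespace Groth.Agent.Pic13.H602.FamDesc

open Groth.Agent.Fdesc Groth.Agent.Fdesc.LocGen Groth.Agent.Picfga.LineHom
  Groth.Agent.Picfga.LineDescent Groth.Agent.Picfga.LineFam Groth.Agent.Desc.QD
  Groth.Agent.Pic13.H602.Rig

/-- The family `a^* N → a'^* N` for `a' = g ≫ a`. -/
noncomputable def trFam {Y Y' S : Scheme.{u}} (g : Y' ⟶ Y) (a : Y ⟶ S) (a' : Y' ⟶ S)
    (w : g ≫ a = a') (N : S.Modules) : Fam g (PB a N) (PB a' N) :=
  Fam.ofIso (cmpIso g a a' w N).symm

lemma trFam_map {Y Y' S : Scheme.{u}} (g : Y' ⟶ Y) (a : Y ⟶ S) (a' : Y' ⟶ S)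
    (w : g ≫ a = a') (N : S.Modules) {V : Y.Opens} (s : Γ(PB a N, V)) :
    (trFam g a a' w N).map s = tr g a a' w N le_rfl s := by
  rw [tr_apply, sc_eq, rs_refl]
  rfl

lemma trFam_on {Y Y' S : Scheme.{u}} (g : Y' ⟶ Y) (a : Y ⟶ S) (a' : Y' ⟶ S)
    (w : g ≫ a = a') (N : S.Modules) {V : Y.Opens} {V' : Y'.Opens} (h : V' ≤ g ⁻¹ᵁ V)
    (s : Γ(PB a N, V)) : (trFam g a a' w N).on h s = tr g a a' w N h s := by
  rw [Fam.on_def, trFam_map]
  exact rs_tr g a a' w N le_rfl h s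

lemma can_comp_trFam {Y Y' S : Scheme.{u}} (g : Y' ⟶ Y) (a : Y ⟶ S) (a' : Y' ⟶ S)
    (w : g ≫ a = a') (N : S.Modules) : Sim ((can a N).comp (trFam g a a' w N)) (can a' N) := by
  subst w
  refine Sim.of_eq (Fam.ext' fun U s ↦ ?_)
  rw [Fam.comp_map, trFam_map, can_map_sc, can_map_sc]
  exact tr_sc g a (g ≫ a) rfl N le_rfl le_rfl le_rfl s

section sec

variable {W : Scheme.{u}} {ι : Type v} {W' : ι → Scheme.{u}} {q : ∀ i, W' i ⟶ W}
  {N : W.Modules} {N' : ∀ i, (W' i).Modules} (hN : PicF.IsInvertible N)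
  (hq : Presieve.ofArrows W' q ∈ Scheme.fpqcPrecoverage W) (ν : ∀ i, Fam (q i) N (N' i))

include hN hq

/-- fpqc descent of sections. -/
theorem exists_sec {U : W.Opens} (s : ∀ i, Γ(N' i, q i ⁻¹ᵁ U))
    (hs : ∀ (i j : ι) (Z : Scheme.{u}) (a : Z ⟶ W' i) (b : Z ⟶ W' j) (M : Z.Modules)
      (α : Fam a (N' i) M) (β : Fam b (N' j) M), Sim ((ν i).comp α) ((ν j).comp β) →
      ∀ (V : Z.Opens) (ha : V ≤ a ⁻¹ᵁ (q i ⁻¹ᵁ U)) (hb : V ≤ b ⁻¹ᵁ (q j ⁻¹ᵁ U)),
        α.on ha (s i) = β.on hb (s j)) : ∃! t : Γ(N, U), ∀ i, (ν i).map t = s i := by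
  choose e he using fun i ↦ Fam.exists_ofIso hN (ν i)
  have hν : ∀ i (t : Γ(N, U)), (ν i).map t = (e i).hom.app _ (pullSec (q i) t) := fun i t ↦ by
    rw [he i]; rfl
  have hν' : ∀ i (t : Γ(N, U)), (ν i).map t = s i ↔
      sc (q i) N le_rfl t = (e i).inv.app _ (s i) := by
    intro i t
    rw [hν, sc_eq, rs_refl]
    constructor
    · intro h
      rw [← h]
      exact (congr(($((e i).hom_inv_id).app _) _)).symm
    · intro h
      rw [h]
      exact congr(($((e i).inv_hom_id).app _) _)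
  -- the comparison families
  let α : ∀ (i : ι) (Z : Scheme.{u}) (a : Z ⟶ W' i) (c : Z ⟶ W) (_ : a ≫ q i = c),
    Fam a (N' i) (PB c N) := fun i Z a c wi ↦
      ((idFam (e i).symm).comp (trFam a (q i) c wi N)).cast (Category.comp_id a)
  have hα : ∀ (i : ι) (Z : Scheme.{u}) (a : Z ⟶ W' i) (c : Z ⟶ W) (wi : a ≫ q i = c),
      Sim ((ν i).comp (α i Z a c wi)) (can c N) := by
    intro i Z a c wi
    refine (Sim.comp_right (ν i) (Sim.cast_left _)).trans ?_
    refine Sim.trans ?_ (can_comp_trFam a (q i) c wi N)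
    have h1 : Sim ((ν i).comp (idFam (e i).symm)) (can (q i) N) := by
      refine ⟨Category.id_comp _, ?_⟩
      refine Fam.ext' fun U s ↦ ?_
      rw [Fam.cast_map, Fam.comp_map, idFam_map, he i]
      refine (res_refl _ _).trans ?_
      exact congr(($((e i).hom_inv_id).app _) _)
    exact (Sim.of_eq (comp_assoc (ν i) (idFam (e i).symm) (trFam a (q i) c wi N)).symm).trans
      (h1.comp_left (trFam a (q i) c wi N))
  have key := existsUnique_sec q hq N (Ega2.QCohLocal.isQCoh_of_isInvertible hN) U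
    (fun i ↦ (e i).inv.app _ (s i)) (by
      intro i j Z a b c wi wj ei ej
      have h1 := hs i j Z a b (PB c N) (α i Z a c wi) (α j Z b c wj)
        ((hα i Z a c wi).trans (hα j Z b c wj).symm) (c ⁻¹ᵁ U) ei ej
      have h2 : ∀ (i : ι) (Z : Scheme.{u}) (a : Z ⟶ W' i) (c : Z ⟶ W) (wi : a ≫ q i = c)
          (ei : c ⁻¹ᵁ U ≤ a ⁻¹ᵁ (q i ⁻¹ᵁ U)), (α i Z a c wi).on ei (s i) =
            tr a (q i) c wi N ei ((e i).inv.app _ (s i)) := by
        intro i Z a c wi ei
        rw [← trFam_on]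
        have h3 : ((idFam (e i).symm).comp (trFam a (q i) c wi N)).on
            (show c ⁻¹ᵁ U ≤ (a ≫ 𝟙 _) ⁻¹ᵁ (q i ⁻¹ᵁ U) by simpa using ei) (s i) =
            (trFam a (q i) c wi N).on ei ((e i).inv.app _ (s i)) := rfl
        rw [← h3]
        exact Fam.cast_on _ _ _ _
      rw [h2, h2] at h1
      exact h1)
  obtain ⟨t, ht, htu⟩ := key
  exact ⟨t, fun i ↦ (hν' i t).2 (ht i), fun t' ht' ↦ htu t' fun i ↦ (hν' i t').1 (ht' i)⟩

/-- Sections which agree after pullback are equal. -/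
theorem sec_ext {U : W.Opens} {t t' : Γ(N, U)} (h : ∀ i, (ν i).map t = (ν i).map t') : t = t' := by
  obtain ⟨t₀, -, h0⟩ := exists_sec hN hq ν (fun i ↦ (ν i).map t) (by
    intro i j Z a b M α β hαβ V ha hb
    exact hαβ.on_eq ha hb t)
  rw [h0 t fun i ↦ rfl, h0 t' fun i ↦ (h i).symm]

/-- A section is a generator if it is so after pullback. -/
theorem isGen_of_map {U : W.Opens} {t : Γ(N, U)} (h : ∀ i, IsGen ((ν i).map t)) : IsGen t := by
  choose e he using fun i ↦ Fam.exists_ofIso hN (ν i)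
  have hsurj : ∀ x : W, ∃ i, ∃ y : W' i, q i y = x := by
    have h1 : Presieve.ofArrows W' q ∈ Scheme.precoverage @Flat W := hq.2
    rw [Scheme.ofArrows_mem_precoverage_iff] at h1
    exact h1.1
  suffices H : ∀ x : U, ∃ (V : W.Opens) (hV : V ≤ U), x.1 ∈ V ∧ IsGen (LocGen.res N hV t) by
    choose V hV hx hg using H
    exact IsGen.of_cover V hV (fun x hx' ↦ Opens.mem_iSup.2 ⟨⟨x, hx'⟩, hx _⟩) hg
  rintro ⟨x, hx⟩
  obtain ⟨i, y, rfl⟩ := hsurj x
  have h1 : IsGen (pullSec (q i) t) := by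
    have h2 := h i
    rw [he i] at h2
    have h3 : (Fam.ofIso (e i)).map t = (e i).hom.app _ (pullSec (q i) t) := rfl
    rw [h3, isGen_app_iff] at h2
    exact h2
  exact Fga.EtTriv.exists_isGen_of_pull (q i) N hN t y hx _ le_rfl hx (by rwa [res_refl])

end sec

end Groth.Agent.Pic13.H602.FamDesc
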