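import Groth.Agent.Pic13.H602.FamDesc2

/-!
# fpqc descent of families

* `exists_fam`: families `σ^* L ≅ N` descend along fpqc covering families of the source of `σ`;
* `fam_ext`: uniqueness.
-/

set_option autoImplicit false
set_option backward.isDefEq.respectTransparency false

universe v u

open CategoryTheory CategoryTheory.Limits AlgebraicGeometry TopologicalSpace Opposite

namespace Groth.Agent.Pic13.H602.FamDesc

open Groth.Agent.Fdesc Groth.Agent.Fdesc.LocGen Groth.Agent.Picfga.LineHom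
  Groth.Agent.Picfga.LineDescent Groth.Agent.Picfga.LineFam Groth.Agent.Desc.QD
  Groth.Agent.Pic13.H602.Rig

variable {Y W : Scheme.{u}} {ι : Type v} {W' : ι → Scheme.{u}} {q : ∀ i, W' i ⟶ W}
  {N : W.Modules} {N' : ∀ i, (W' i).Modules} (hN : PicF.IsInvertible N)
  (hq : Presieve.ofArrows W' q ∈ Scheme.fpqcPrecoverage W) (ν : ∀ i, Fam (q i) N (N' i))
  {σ : W ⟶ Y} {L : Y.Modules}

include hN hq

/-- Uniqueness in descent of families. -/
theorem fam_ext {φ φ' : Fam σ L N} (h : ∀ i, Sim (φ.comp (ν i)) (φ'.comp (ν i))) : φ = φ' := by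
  refine Fam.ext' fun U s ↦ sec_ext hN hq ν fun i ↦ ?_
  exact congrArg (fun F : Fam (q i ≫ σ) L (N' i) ↦ F.map s) (h i).eq

/-- Descent of families. -/
theorem exists_fam (φ : ∀ i, Fam (q i ≫ σ) L (N' i))
    (hφ : ∀ (i j : ι) (Z : Scheme.{u}) (a : Z ⟶ W' i) (b : Z ⟶ W' j) (M : Z.Modules)
      (α : Fam a (N' i) M) (β : Fam b (N' j) M), Sim ((ν i).comp α) ((ν j).comp β) →
      Sim ((φ i).comp α) ((φ j).comp β)) :
    ∃ φ₀ : Fam σ L N, ∀ i, φ₀.comp (ν i) = φ i := by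
  have key : ∀ (U : Y.Opens) (m : Γ(L, U)), ∃! t : Γ(N, σ ⁻¹ᵁ U), ∀ i,
      (ν i).map t = (φ i).map m := by
    intro U m
    refine exists_sec hN hq ν (U := σ ⁻¹ᵁ U) (fun i ↦ (φ i).map m) ?_
    intro i j Z a b M α β h V ha hb
    exact (hφ i j Z a b M α β h).on_eq ha hb m
  choose n hn hnu using key
  refine ⟨⟨fun {U} m ↦ n U m, ?_, ?_, ?_⟩, ?_⟩
  · intro U a s
    refine sec_ext hN hq ν fun i ↦ ?_
    rw [hn, (φ i).smul, (ν i).smul, hn]
    rfl
  · intro U V h s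
    refine sec_ext hN hq ν fun i ↦ ?_
    rw [hn, (φ i).res, (ν i).res, hn]
    rfl
  · intro U e he
    refine isGen_of_map hN hq ν fun i ↦ ?_
    rw [hn]
    exact (φ i).gen he
  · intro i
    exact Fam.ext' fun U s ↦ hn U s i

/-- Descent of families, the compatibility being checked on the fibre products. -/
theorem exists_fam_overlap {P : ι → ι → Scheme.{u}} {q₁ : ∀ i j, P i j ⟶ W' i}
    {q₂ : ∀ i j, P i j ⟶ W' j} (hP : ∀ i j, IsPullback (q₁ i j) (q₂ i j) (q i) (q j))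
    {N'' : ∀ i j, (P i j).Modules} (κ₁ : ∀ i j, Fam (q₁ i j) (N' i) (N'' i j))
    (κ₂ : ∀ i j, Fam (q₂ i j) (N' j) (N'' i j))
    (hκ : ∀ i j, Sim ((ν i).comp (κ₁ i j)) ((ν j).comp (κ₂ i j)))
    (φ : ∀ i, Fam (q i ≫ σ) L (N' i))
    (hφ : ∀ i j, Sim ((φ i).comp (κ₁ i j)) ((φ j).comp (κ₂ i j))) :
    ∃ φ₀ : Fam σ L N, ∀ i, φ₀.comp (ν i) = φ i := by
  refine exists_fam hN hq ν φ ?_
  intro i j Z a b M α β h
  have hN' : ∀ i, PicF.IsInvertible (N' i) := fun i ↦ (ν i).isInvertible hN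
  have w : a ≫ q i = b ≫ q j := h.hom_eq
  obtain ⟨l, hl⟩ := exists_fill_sim (hN' i) (κ₁ i j) α ((hP i j).lift_fst a b w)
  have hl' : Sim ((κ₂ i j).comp l) β := by
    refine Sim.cancel hN (ν j) ((hP i j).lift_snd a b w) ?_
    exact ((((hκ i j).symm.comp_left l).trans (hl.comp_right (ν i))).trans h)
  exact ((hl.symm.comp_right (φ i)).trans ((hφ i j).comp_left l)).trans (hl'.comp_right (φ j))

end Groth.Agent.Pic13.H602.FamDesc
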