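import Groth.Agent.Sga2lef.H78.RankOne
import Groth.Agent.Desc.FinFamEff
import Groth.Agent.Desc.FinLocFreeSections
import Groth.Agent.Desc.FpqcRefine
import Groth.Agent.Picfga.LineDescent
import Groth.Agent.Krr.H490.PBFun
import Groth.Agent.VarietyB.PullSec

/-!
# Invertibility of quasi-coherent modules descends along fpqc families

`isInvertible_of_fpqc`: `M` quasi-coherent on `S`, `f i : X i ⟶ S` an fpqc covering family with all `f_i^* M`
invertible; then `M` is invertible.
-/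

set_option autoImplicit false

universe v u

open CategoryTheory CategoryTheory.Limits AlgebraicGeometry TopologicalSpace Opposite

namespace Groth.Agent.Pic13.H602.InvDesc

open Groth.Agent.Fdesc.LocGen

/-- Single quasi-compact faithfully flat morphism. -/
theorem isInvertible_of_single {X S : Scheme.{u}} (g : X ⟶ S) [QuasiCompact g] [Flat g] [Surjective g]
    (M : S.Modules) (hM : Coh.IsQCoh M)
    (h : PicF.IsInvertible ((Scheme.Modules.pullback g).obj M)) : PicF.IsInvertible M := by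
  have h1 : FlatMod.IsFinLocFree M :=
    Groth.Agent.Desc.FinLocFreeSections.isFinLocFree_of_pullback g M hM
      (fun x ↦ by
        obtain ⟨U, hx, ⟨e⟩⟩ := h x
        obtain ⟨e'⟩ := Sga2lef.H78.RankOne.nonempty_freeMod_one (U : Scheme.{u})
        exact ⟨U, 1, hx, ⟨e ≪≫ e'⟩⟩)
  rw [isInvertible_iff]
  intro y
  obtain ⟨z, rfl⟩ := g.surjective y
  obtain ⟨U, n, hy, ⟨e⟩⟩ := h1 (g z)
  obtain ⟨W, s, hW, hs⟩ := Sga2lef.H78.RankOne.exists_gen U.ι e g h z (by
    rw [Scheme.Opens.opensRange_ι]; exact hy)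
  exact ⟨W, s, hW, hs⟩

/-- fpqc families. -/
theorem isInvertible_of_fpqc {ι : Type v} {S : Scheme.{u}} {X : ι → Scheme.{u}} (f : ∀ i, X i ⟶ S)
    (hf : Presieve.ofArrows X f ∈ Scheme.fpqcPrecoverage S) (M : S.Modules) (hM : Coh.IsQCoh M)
    (h : ∀ i, PicF.IsInvertible ((Scheme.Modules.pullback (f i)).obj M)) : PicF.IsInvertible M := by
  refine Krr.H490.PBFun.isInvertible_of_cover (ι := S.affineOpens)
    (Z := fun V ↦ (V.1 : Scheme.{u})) (fun V ↦ V.1.ι) ?_ ?_
  · intro y
    obtain ⟨V, hV, hyV, -⟩ := Opens.isBasis_iff_nbhd.1 S.isBasis_affineOpens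
      (show y ∈ (⊤ : S.Opens) from trivial)
    exact ⟨⟨V, hV⟩, ⟨y, hyV⟩, rfl⟩
  intro V
  have : IsAffine (V.1 : Scheme.{u}) := V.2
  have hf' : Presieve.ofArrows (fun i ↦ pullback (f i) V.1.ι) (fun i ↦ pullback.snd (f i) V.1.ι) ∈
      Scheme.fpqcPrecoverage (V.1 : Scheme.{u}) :=
    Precoverage.mem_coverings_of_isPullback f hf V.1.ι _
      (fun i => pullback.fst (f i) V.1.ι) (fun i => (IsPullback.of_hasPullback _ _).flip)
  obtain ⟨n, W, α, p, hp, hW, hflat, hs⟩ := Desc.FpqcRefine.exists_refine _ hf'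
  let w : ∀ k, W k ⟶ (V.1 : Scheme.{u}) := fun k ↦ p k ≫ pullback.snd (f (α k)) V.1.ι
  have : ∀ k, Flat (w k) := hflat
  have : Surjective (Sigma.desc w) := Desc.FinFamEff.sigmaDesc_surjective w hs
  have : Flat (Sigma.desc w) := Desc.FinFamEff.flat_sigmaDesc w
  have : IsAffine (∐ W) := inferInstance
  refine isInvertible_of_single (Sigma.desc w) _ (VarietyB.PullSec.isQCoh_pullback _ _ hM) ?_
  refine Krr.H490.PBFun.isInvertible_of_cover (fun k ↦ Sigma.ι W k) ?_ ?_
  · intro x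
    obtain ⟨k, y, hy⟩ := (sigmaOpenCover W).exists_eq x
    exact ⟨k, y, hy⟩
  intro k
  have e : Sigma.ι W k ≫ Sigma.desc w ≫ V.1.ι =
      (p k ≫ pullback.fst (f (α k)) V.1.ι) ≫ f (α k) := by
    rw [Sigma.ι_desc_assoc, Category.assoc, Category.assoc, pullback.condition]
  have h2 := Krr.H490.PBFun.isInvertible_pullback (p k ≫ pullback.fst (f (α k)) V.1.ι) (h (α k))
  refine Krr.H490.PBFun.isInvertible_of_iso ?_ h2
  exact (Scheme.Modules.pullbackComp _ _).app M ≪≫ (Scheme.Modules.pullbackCongr e.symm).app M ≪≫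
    ((Scheme.Modules.pullbackComp _ _).app M).symm ≪≫
    (Scheme.Modules.pullback _).mapIso ((Scheme.Modules.pullbackComp _ _).app M).symm

end Groth.Agent.Pic13.H602.InvDesc
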